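import Groth.Agent.SerreCdLib.Local
import Mathlib.RingTheory.MvPolynomial.Basic
import Mathlib.RingTheory.AlgebraicIndependent.TranscendenceBasis

/-!
# Finitely generated extensions: a local ring at a rational point
-/

set_option autoImplicit false
set_option linter.unusedSectionVars false
set_option linter.style.haveILetI false
set_option backward.isDefEq.respectTransparency false
set_option backward.isDefEq.respectTransparency.types false
set_option synthInstance.maxHeartbeats 400000
set_option maxHeartbeats 1600000

universe u

open MvPolynomial IsLocalRing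
open CdFieldLib

noncomputable section

namespace SerreCdLib

variable (k : Type u) [Field k] (t : ℕ)

/-- The point where the first `i` coordinates vanish. -/
def coordPrime (i : Fin (t + 1)) : Ideal (MvPolynomial (Fin t) k) :=
  RingHom.ker (aeval fun j : Fin t => if j.val < i.val then (0 : MvPolynomial (Fin t) k) else X j).toRingHom

instance (i : Fin (t + 1)) : (coordPrime k t i).IsPrime := RingHom.ker_isPrime _

theorem coordPrime_strictMono : StrictMono (coordPrime k t) := by
  intro i j hij
  have hij' : i.val < j.val := hij
  refine lt_of_le_of_ne (fun p hp => ?_) fun e => ?_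
  · have hcomp : (aeval fun a : Fin t => if a.val < j.val then (0 : MvPolynomial (Fin t) k) else X a).comp
        (aeval fun a : Fin t => if a.val < i.val then (0 : MvPolynomial (Fin t) k) else X a) =
        aeval fun a : Fin t => if a.val < j.val then (0 : MvPolynomial (Fin t) k) else X a := by
      refine algHom_ext fun a => ?_
      simp only [AlgHom.coe_comp, Function.comp_apply, aeval_X]
      split_ifs with h1 h2 <;> simp only [map_zero, aeval_X]
      · omega
      · rw [if_pos ‹_›]
      · rw [if_neg ‹_›]
    have hp' : (aeval fun a : Fin t => if a.val < i.val then (0 : MvPolynomial (Fin t) k) else X a) p = 0 := hp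
    show (aeval fun a : Fin t => if a.val < j.val then (0 : MvPolynomial (Fin t) k) else X a) p = 0
    rw [← hcomp, AlgHom.comp_apply, hp', map_zero]
  · have hi : i.val < t := by omega
    have h1 : (X ⟨i.val, hi⟩ : MvPolynomial (Fin t) k) ∈ coordPrime k t j := by
      show (aeval _ : MvPolynomial (Fin t) k →ₐ[k] _) (X _) = 0
      rw [aeval_X, if_pos hij']
    rw [← e] at h1
    have h2 : (aeval fun a : Fin t => if a.val < i.val then (0 : MvPolynomial (Fin t) k) else X a) (X ⟨i.val, hi⟩) = 0 := h1
    rw [aeval_X, if_neg (lt_irrefl i.val)] at h2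
    exact X_ne_zero _ h2

/-- The local ring at the origin. -/
abbrev originRing : Type u := Localization.AtPrime (coordPrime k t (Fin.last t))

theorem le_dim_originRing : (t : WithBot ℕ∞) ≤ ringKrullDim (originRing k t) := by
  rw [IsLocalization.AtPrime.ringKrullDim_eq_height (coordPrime k t (Fin.last t)) (originRing k t)]
  have h : (t : ℕ∞) ≤ (coordPrime k t (Fin.last t)).height := by
    let p : PrimeSpectrum (MvPolynomial (Fin t) k) := ⟨coordPrime k t (Fin.last t), inferInstance⟩
    show _ ≤ p.asIdeal.height
    rw [PrimeSpectrum.height_eq_orderHeight]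
    let s : LTSeries (PrimeSpectrum (MvPolynomial (Fin t) k)) :=
      ⟨t, fun i => ⟨coordPrime k t i, inferInstance⟩, fun i => coordPrime_strictMono k t Fin.castSucc_lt_succ⟩
    exact Order.length_le_height (p := s) le_rfl
  exact_mod_cast h

theorem residue_surj : Function.Surjective ((residue (originRing k t)).comp
    (algebraMap k (originRing k t))) := by
  intro y
  obtain ⟨a, rfl⟩ := residue_surjective y
  obtain ⟨p, s, rfl⟩ := IsLocalization.exists_mk'_eq (coordPrime k t (Fin.last t)).primeCompl a
  let ev : MvPolynomial (Fin t) k →ₐ[k] k := aeval fun _ => (0 : k)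
  have key : ∀ q : MvPolynomial (Fin t) k,
      residue (originRing k t) (algebraMap _ _ q) = residue _ (algebraMap k (originRing k t) (ev q)) := by
    intro q
    induction q using MvPolynomial.induction_on with
    | C a =>
      have : ev (C a) = a := by simp [ev]
      rw [this, IsScalarTower.algebraMap_apply k (MvPolynomial (Fin t) k) (originRing k t), MvPolynomial.algebraMap_eq]
    | add p q hp hq => simp only [map_add, hp, hq]
    | mul_X p j hp =>
      have h0 : residue (originRing k t) (algebraMap (MvPolynomial (Fin t) k) (originRing k t) (X j)) = 0 := by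
        refine (residue_eq_zero_iff _).2 ((IsLocalization.AtPrime.to_map_mem_maximal_iff _ (coordPrime k t (Fin.last t)) _).2 ?_)
        show (aeval _ : MvPolynomial (Fin t) k →ₐ[k] _) (X j) = 0
        rw [aeval_X, if_pos (show j.val < (Fin.last t).val from j.2)]
      have h1 : ev (X j) = 0 := aeval_X _ _
      rw [map_mul, map_mul, h0, mul_zero, map_mul, h1, mul_zero, map_zero, map_zero]
  refine ⟨ev p / ev s, ?_⟩
  let g := (residue (originRing k t)).comp (algebraMap k (originRing k t))
  have hs : IsUnit (algebraMap _ (originRing k t) (s : MvPolynomial (Fin t) k)) := IsLocalization.map_units _ s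
  have hs0 : g (ev s) ≠ 0 := by
    show residue _ (algebraMap k (originRing k t) (ev s)) ≠ 0
    rw [← key]
    exact (hs.map _).ne_zero
  show g _ = _
  rw [map_div₀, div_eq_iff hs0]
  show residue _ (algebraMap k (originRing k t) (ev p)) = residue _ _ * residue _ (algebraMap k (originRing k t) (ev s))
  rw [← key, ← key, ← map_mul, IsLocalization.mk'_spec]

variable {k}

/-- Finiteness over a field containing a transcendence basis. -/
theorem finite_of_basis (F k' : Type u) [Field F] [Field k'] [Algebra k k'] [Algebra F k'] {ι : Type*}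
    (x : ι → k') (hx : IsTranscendenceBasis k x) (hfg : ∃ s : Finset k', IntermediateField.adjoin k (s : Set k') = ⊤)
    (hk : ∀ a : k, ∃ w : F, algebraMap F k' w = algebraMap k k' a) (hX : ∀ i, ∃ w : F, algebraMap F k' w = x i) :
    FiniteDimensional F k' := by
  obtain ⟨s, hs⟩ := hfg
  let E := IntermediateField.adjoin k (Set.range x)
  haveI : Algebra.IsAlgebraic E k' := hx.isAlgebraic_field
  have hE : ∀ z : E, ∃ w, algebraMap F k' w = z := by
    intro z
    have hzr : (z : k') ∈ (algebraMap F k').fieldRange := by
      refine (IntermediateField.adjoin_le_iff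
        (T := Subfield.toIntermediateField (algebraMap F k').fieldRange fun a => hk a)).2 ?_ z.2
      rintro _ ⟨i, rfl⟩
      exact hX i
    exact hzr
  haveI : Algebra.IsAlgebraic F k' := ⟨fun z => by
    obtain ⟨p, hp, hpz⟩ := Algebra.IsAlgebraic.isAlgebraic (R := E) z
    obtain ⟨q, hq⟩ : ∃ q : Polynomial F, q.map (algebraMap F k') = p.map (algebraMap E k') :=
      Polynomial.mem_lifts _ |>.1 ((Polynomial.lifts_iff_coeff_lifts _).2 fun n => by
        rw [Polynomial.coeff_map]
        exact hE (p.coeff n))
    refine ⟨q, fun h0 => hp ?_, ?_⟩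
    · rw [h0, Polynomial.map_zero] at hq
      exact (Polynomial.map_eq_zero_iff (algebraMap E k').injective).1 hq.symm
    · rw [Polynomial.aeval_def, ← Polynomial.eval_map, hq, Polynomial.eval_map, ← Polynomial.aeval_def, hpz]⟩
  let Fs := IntermediateField.adjoin F (s : Set k')
  haveI : FiniteDimensional F Fs :=
    IntermediateField.finiteDimensional_adjoin fun a _ => (Algebra.IsAlgebraic.isAlgebraic a).isIntegral
  have htop : Fs = ⊤ := by
    refine eq_top_iff.2 fun z _ => ?_
    have hz : z ∈ IntermediateField.adjoin k (s : Set k') := hs ▸ trivial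
    have hle : IntermediateField.adjoin k (s : Set k') ≤
        Subfield.toIntermediateField (K := k) Fs.toSubfield (fun a => by
          obtain ⟨w, hw⟩ := hk a
          exact hw ▸ Fs.algebraMap_mem w) :=
      IntermediateField.adjoin_le_iff.2 (IntermediateField.subset_adjoin F (s : Set k'))
    exact hle hz
  exact Module.Finite.equiv ((IntermediateField.equivOfEq htop).trans IntermediateField.topEquiv).toLinearEquiv

/-- A local domain with residue field `k` whose fraction field has a transcendence basis. -/
theorem cdF_of_localRing (A : Type u) [CommRing A] [IsDomain A] [IsNoetherianRing A] [IsLocalRing A] [Algebra k A]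
    (hres : Function.Surjective ((residue A).comp (algebraMap k A))) (hdim : (t : WithBot ℕ∞) ≤ ringKrullDim A)
    (k' : Type u) [Field k'] [Algebra k k'] (ψ : A →ₐ[k] k') (hψ : Function.Injective ψ)
    {ι : Type*} (x : ι → k') (hx : IsTranscendenceBasis k x) (hX : ∀ i, ∃ a : A, ψ a = x i)
    (hfg : ∃ s : Finset k', IntermediateField.adjoin k (s : Set k') = ⊤) {l d : ℕ}
    (hl : l.Prime) (hlk : (l : k) ≠ 0) (hord : l ≠ 2 ∨ ¬ ∃ _ : LinearOrder k, IsStrictOrderedRing k)
    (h : CdF k' l d) : t ≤ d ∧ CdF k l (d - t) := by
  haveI : Fact l.Prime := ⟨hl⟩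
  let φ : FractionRing A →+* k' := IsFractionRing.lift (g := ψ.toRingHom) hψ
  have hφ : ∀ a : A, φ (algebraMap A _ a) = ψ a := fun a => IsFractionRing.lift_algebraMap (g := ψ.toRingHom) hψ a
  letI := φ.toAlgebra
  haveI : FiniteDimensional (FractionRing A) k' := finite_of_basis (FractionRing A) k' x hx hfg
    (fun a => ⟨algebraMap A _ (algebraMap k A a), (hφ _).trans (ψ.commutes a)⟩)
    (fun i => (hX i).imp' (algebraMap A (FractionRing A)) fun a ha => (hφ a).trans ha)
  let er : k ≃+* ResidueField A := RingEquiv.ofBijective _ ⟨RingHom.injective _, hres⟩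
  have hlA : IsUnit (l : A) := by
    rw [← map_natCast (algebraMap k A)]
    exact (IsUnit.mk0 _ hlk).map _
  obtain ⟨h1, h2⟩ := residue_domain (l := l) d t A hlA
    (hord.imp id fun hn => not_orderable_of_algebra er.toRingHom hn) k' h hdim
  exact ⟨h1, cdF_of_ringEquiv er.symm h2⟩

/-- Serre's bound for finitely generated extensions. -/
theorem cdF_fg_extension (k' : Type u) [Field k'] [Algebra k k']
    (hfg : ∃ s : Finset k', IntermediateField.adjoin k (s : Set k') = ⊤) (ht : Algebra.trdeg k k' = t) {l d : ℕ}
    (hl : l.Prime) (hlk : (l : k) ≠ 0) (hord : l ≠ 2 ∨ ¬ ∃ _ : LinearOrder k, IsStrictOrderedRing k)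
    (h : CdF k' l d) : t ≤ d ∧ CdF k l (d - t) := by
  haveI : FaithfulSMul k k' := (faithfulSMul_iff_algebraMap_injective k k').2 (algebraMap k k').injective
  obtain ⟨S, hS⟩ := exists_isTranscendenceBasis k k'
  have hcard : Cardinal.mk S = t := hS.cardinalMk_eq_trdeg.trans ht
  haveI : Finite S := Cardinal.lt_aleph0_iff_finite.1 (hcard ▸ Cardinal.natCast_lt_aleph0)
  haveI := Fintype.ofFinite S
  have hc : Fintype.card S = t := by
    rw [Cardinal.mk_fintype] at hcard
    exact_mod_cast hcard
  let e : Fin t ≃ S := (Fintype.equivFinOfCardEq hc).symm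
  let x : Fin t → k' := fun i => (e i : k')
  have hx : IsTranscendenceBasis k x := hS.comp_equiv e
  let T := coordPrime k t (Fin.last t)
  have hinj : Function.Injective (aeval x : MvPolynomial (Fin t) k →ₐ[k] k') := hx.1
  have hunit : ∀ s : T.primeCompl, IsUnit ((aeval x : MvPolynomial (Fin t) k →ₐ[k] k') s) := fun s =>
    isUnit_iff_ne_zero.2 fun h0 => s.2 (by rw [hinj (h0.trans (map_zero _).symm)]; exact zero_mem T)
  haveI : IsDomain (originRing k t) := IsLocalization.isDomain_localization T.primeCompl_le_nonZeroDivisors
  haveI : IsNoetherianRing (originRing k t) :=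
    IsLocalization.isNoetherianRing T.primeCompl (originRing k t) inferInstance
  let ψ : originRing k t →ₐ[k] k' := IsLocalization.liftAlgHom (f := aeval x) hunit
  have hψ : ∀ p, ψ (algebraMap _ _ p) = aeval x p := fun p => IsLocalization.lift_eq _ p
  have hψi : Function.Injective ψ := by
    refine (injective_iff_map_eq_zero ψ).2 fun a ha => ?_
    obtain ⟨p, s, rfl⟩ := IsLocalization.exists_mk'_eq T.primeCompl a
    have h1 := congrArg ψ (IsLocalization.mk'_spec (originRing k t) p s)
    rw [map_mul, ha, zero_mul, hψ] at h1
    rw [hinj (h1.symm.trans (map_zero _).symm), IsLocalization.mk'_zero]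
  exact cdF_of_localRing t (originRing k t) (residue_surj k t) (le_dim_originRing k t) k' ψ hψi x hx
    (fun i => ⟨algebraMap _ _ (X i), (hψ _).trans (aeval_X x i)⟩) hfg hl hlk hord h

end SerreCdLib
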