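import Groth.Agent.SerreCdLib.Ordering
import Mathlib.RingTheory.Polynomial.UniqueFactorization
import Mathlib.Algebra.Polynomial.FieldDivision
import Mathlib.RingTheory.AdjoinRoot
import Mathlib.FieldTheory.IntermediateField.Adjoin.Basic

/-!
# Extensions of ordered fields of odd degree, and by square roots of positive elements
-/

set_option autoImplicit false
set_option linter.style.haveILetI false

universe u v

open Polynomial

namespace SerreCdLib

variable {R : Type u} [Field R] [LinearOrder R] [IsStrictOrderedRing R]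

/-- Shape of sums of squares of polynomials. -/
def SqShape (p : R[X]) : Prop := p = 0 ∨ (Even p.natDegree ∧ 0 < p.leadingCoeff)

/-- Shape of sums of squares of polynomials, not all zero. -/
def SqPos (p : R[X]) : Prop := Even p.natDegree ∧ 0 < p.leadingCoeff

theorem sqShape_mul_self (p : R[X]) : SqShape (p * p) := by
  by_cases h : p = 0
  · exact Or.inl (by rw [h, mul_zero])
  refine Or.inr ⟨?_, ?_⟩
  · rw [natDegree_mul h h]; exact ⟨p.natDegree, rfl⟩
  · rw [leadingCoeff_mul]; exact mul_self_pos.2 (leadingCoeff_ne_zero.2 h)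

theorem SqPos.add {p q : R[X]} (hp : SqPos p) (hq : SqShape q) : SqPos (p + q) := by
  obtain ⟨hp1, hp2⟩ := hp
  rcases hq with rfl | ⟨hq1, hq2⟩
  · rw [add_zero]; exact ⟨hp1, hp2⟩
  show Even _ ∧ _
  rcases lt_trichotomy p.natDegree q.natDegree with h | h | h
  · rw [natDegree_add_eq_right_of_natDegree_lt h, leadingCoeff_add_of_degree_lt (degree_lt_degree h)]
    exact ⟨hq1, hq2⟩
  · have hp0 : p ≠ 0 := leadingCoeff_ne_zero.1 hp2.ne'
    have hq0 : q ≠ 0 := leadingCoeff_ne_zero.1 hq2.ne'
    have hdeg : p.degree = q.degree := by rw [degree_eq_natDegree hp0, degree_eq_natDegree hq0, h]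
    have hl : (p + q).leadingCoeff = p.leadingCoeff + q.leadingCoeff :=
      leadingCoeff_add_of_degree_eq hdeg (add_pos hp2 hq2).ne'
    have hd : (p + q).natDegree = p.natDegree := by
      refine le_antisymm ((natDegree_add_le _ _).trans (by rw [h, max_self])) (le_natDegree_of_ne_zero ?_)
      rw [coeff_add, coeff_natDegree, h, coeff_natDegree]
      exact (add_pos hp2 hq2).ne'
    rw [hd, hl]
    exact ⟨hp1, add_pos hp2 hq2⟩
  · rw [natDegree_add_eq_left_of_natDegree_lt h, leadingCoeff_add_of_degree_lt' (degree_lt_degree h)]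
    exact ⟨hp1, hp2⟩

theorem sqShape_one_add_sum (l : List R[X]) : SqPos (1 + (l.map fun f => f * f).sum) := by
  induction l with
  | nil =>
    rw [List.map_nil, List.sum_nil, add_zero]
    exact ⟨by rw [natDegree_one]; exact Even.zero, by rw [leadingCoeff_one]; exact one_pos⟩
  | cons f l ih =>
    rw [List.map_cons, List.sum_cons, ← add_assoc, add_comm 1 (f * f), add_assoc, add_comm]
    exact ih.add (sqShape_mul_self f)

theorem natDegree_one_add_sum_le (l : List R[X]) (n : ℕ) (h : ∀ f ∈ l, f.natDegree < n) :
    (1 + (l.map fun f => f * f).sum).natDegree ≤ 2 * (n - 1) := by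
  induction l with
  | nil => simp
  | cons f l ih =>
    rw [List.map_cons, List.sum_cons, ← add_assoc, add_comm 1 (f * f), add_assoc]
    refine (natDegree_add_le _ _).trans (max_le ?_ (ih fun g hg => h g (List.mem_cons_of_mem _ hg)))
    have := h f List.mem_cons_self
    exact natDegree_mul_le.trans (by omega)

/-- An irreducible factor of odd degree. -/
theorem exists_odd_factor (p : R[X]) (hp : p ≠ 0) (ho : Odd p.natDegree) :
    ∃ q, Irreducible q ∧ q ∣ p ∧ Odd q.natDegree := by
  by_contra hc
  push Not at hc
  have key : ∀ q : R[X], q ≠ 0 → q ∣ p → Even q.natDegree := by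
    intro q
    induction q using UniqueFactorizationMonoid.induction_on_prime with
    | h₁ => exact fun h => absurd rfl h
    | h₂ x hx => exact fun _ _ => by rw [natDegree_eq_zero_of_isUnit hx]; exact Even.zero
    | h₃ a q ha hq ih =>
      intro h0 hd
      rw [natDegree_mul hq.ne_zero ha]
      exact (Nat.not_odd_iff_even.1 (hc q hq.irreducible (dvd_trans (dvd_mul_right _ _) hd))).add
        (ih ha (dvd_trans (dvd_mul_left _ _) hd))
  exact (Nat.not_even_iff_odd.2 ho) (key p hp dvd_rfl)

/-- `-1` is not a sum of squares modulo an irreducible polynomial of odd degree. -/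
theorem not_dvd_one_add_sum : ∀ (n : ℕ) (p : R[X]), Irreducible p → p.natDegree = n → Odd n →
    ∀ l : List R[X], ¬ p ∣ 1 + (l.map fun f => f * f).sum := by
  intro n
  induction n using Nat.strong_induction_on with
  | _ n ih =>
  intro p hp hn ho l hd
  let l' := l.map fun f => f % p
  have hd' : p ∣ 1 + (l'.map fun f => f * f).sum := by
    have h : p ∣ (l.map fun f => f * f).sum - (l'.map fun f => f * f).sum := by
      clear hd
      simp only [l']
      induction l with
      | nil => simp
      | cons f l ihl =>
        simp only [List.map_cons, List.sum_cons]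
        rw [add_sub_add_comm]
        refine dvd_add ?_ ihl
        rw [show f * f - f % p * (f % p) = (f - f % p) * (f + f % p) by ring]
        exact dvd_mul_of_dvd_left ⟨f / p, by linear_combination -(EuclideanDomain.div_add_mod f p)⟩ _
    have := dvd_sub hd h
    rwa [show (1 : R[X]) + (l.map fun f => f * f).sum - ((l.map fun f => f * f).sum - (l'.map fun f => f * f).sum) =
      1 + (l'.map fun f => f * f).sum by ring] at this
  have hlt : ∀ f ∈ l', f.natDegree < n := by
    intro f hf
    obtain ⟨g, -, rfl⟩ := List.mem_map.1 hf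
    by_cases h0 : g % p = 0
    · rw [h0, natDegree_zero]; exact ho.pos
    · rw [← hn]
      exact natDegree_lt_natDegree h0 (EuclideanDomain.mod_lt _ hp.ne_zero)
  have hsh := sqShape_one_add_sum l'
  have hle := natDegree_one_add_sum_le l' n hlt
  obtain ⟨h, hgh⟩ := hd'
  rw [hgh] at hsh hle
  obtain ⟨he, hpos⟩ := hsh
  have hg0 : p * h ≠ 0 := leadingCoeff_ne_zero.1 hpos.ne'
  have hh0 : h ≠ 0 := right_ne_zero_of_mul hg0
  rw [natDegree_mul hp.ne_zero hh0, hn] at he hle
  have hoh : Odd h.natDegree := by
    rw [Nat.even_add] at he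
    exact Nat.not_even_iff_odd.1 fun hev => (Nat.not_even_iff_odd.2 ho) (he.2 hev)
  obtain ⟨q, hq, hqh, hoq⟩ := exists_odd_factor h hh0 hoh
  have hqn : q.natDegree < n := by
    have h1 := ho.pos
    exact lt_of_le_of_lt (natDegree_le_of_dvd hqh hh0) (by omega)
  exact ih q.natDegree hqn q hq rfl hoq l' (hgh ▸ dvd_mul_of_dvd_right hqh p)

end SerreCdLib
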