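import Groth.Agent.SerreCdLib.Local
import Groth.Agent.SerreCdLib.Odd
import Groth.Agent.HensDvrCdLib.Field
import Groth.Agent.HensDvrCdLib.Res
import Groth.Agent.HensDvrCdLib.WildLower
import Mathlib.FieldTheory.IsAlgClosed.AlgebraicClosure
import Mathlib.FieldTheory.PrimitiveElement
import Mathlib.FieldTheory.Galois.Basic
import Mathlib.GroupTheory.Sylow

/-!
# Orderable fields have infinite cohomological `2`-dimension
-/

set_option autoImplicit false
set_option linter.unusedSectionVars false
set_option linter.style.haveILetI false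
set_option backward.isDefEq.respectTransparency false
set_option backward.isDefEq.respectTransparency.types false
set_option synthInstance.maxHeartbeats 400000
set_option maxHeartbeats 1600000

universe u

open CategoryTheory CategoryTheory.Limits CategoryTheory.Abelian AlgebraicGeometry Opposite Polynomial
open scoped IntermediateField
open Groth.Agent Groth.Agent.EtShLib EtSliceLib EtTransferLib EtKummerLib EtBrLib CdFieldLib HensDvrCdLib

noncomputable section

namespace SerreCdLib

theorem isSumSq_map {A B : Type u} [CommRing A] [CommRing B] (f : A →+* B) {a : A} (ha : IsSumSq a) :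
    IsSumSq (f a) := by
  induction ha using IsSumSq.rec' with
  | zero => rw [map_zero]; exact IsSumSq.zero
  | sq_add hx hy ih =>
    obtain ⟨b, rfl⟩ := hx
    rw [map_add, map_mul]
    exact IsSumSq.sq_add _ ih

/-- A maximal algebraic extension in which `-1` is not a sum of squares. -/
theorem exists_maximal_semireal (K : Type u) [Field K] (hK : ¬ IsSumSq (-1 : K)) :
    ∃ R : IntermediateField K (AlgebraicClosure K), ¬ IsSumSq (-1 : R) ∧
      ∀ R' : IntermediateField K (AlgebraicClosure K), R ≤ R' → ¬ IsSumSq (-1 : R') → R' ≤ R := by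
  let Ω := AlgebraicClosure K
  let S : Set (IntermediateField K Ω) := {R | ¬ IsSumSq (-1 : R)}
  have hbot : (⊥ : IntermediateField K Ω) ∈ S := fun h => hK (by
    have := isSumSq_map (IntermediateField.botEquiv K Ω).toRingEquiv.toRingHom h
    simpa using this)
  obtain ⟨R, hR, hmax⟩ := zorn_le₀ S (fun c hcS hc => by
    rcases c.eq_empty_or_nonempty with rfl | hne
    · exact ⟨⊥, hbot, fun _ h => h.elim⟩
    haveI : Nonempty c := hne.to_subtype
    let U : IntermediateField K Ω := ⨆ M : c, (M : IntermediateField K Ω)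
    have hdir : Directed (· ≤ ·) fun M : c => (M : IntermediateField K Ω) :=
      directedOn_iff_directed.1 hc.directedOn
    refine ⟨U, fun h => ?_, fun M hM => le_iSup (fun M : c => (M : IntermediateField K Ω)) ⟨M, hM⟩⟩
    suffices ∀ s : U, IsSumSq s → ∃ (M : c) (s' : (M : IntermediateField K Ω)), (s' : Ω) = s ∧ IsSumSq s' by
      obtain ⟨M, s', hs, hs'⟩ := this _ h
      refine hcS M.2 ?_
      rwa [show s' = -1 from Subtype.ext (hs.trans rfl)] at hs'
    intro s hs
    induction hs using IsSumSq.rec' with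
    | zero => exact ⟨Classical.arbitrary c, 0, rfl, IsSumSq.zero⟩
    | sq_add hx hy ih =>
      obtain ⟨b, rfl⟩ := hx
      obtain ⟨M, s', hs, hs'⟩ := ih
      obtain ⟨N, hN⟩ : ∃ N : c, (b : Ω) ∈ (N : IntermediateField K Ω) := by
        have hb := b.2
        rw [← SetLike.mem_coe, IntermediateField.coe_iSup_of_directed hdir] at hb
        exact Set.mem_iUnion.1 hb
      obtain ⟨P, hP1, hP2⟩ := hdir M N
      refine ⟨P, ⟨b, hP2 hN⟩ * ⟨b, hP2 hN⟩ + IntermediateField.inclusion hP1 s', ?_, ?_⟩
      · show (b : Ω) * b + (s' : Ω) = _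
        rw [hs]; rfl
      · exact IsSumSq.sq_add _ (isSumSq_map (IntermediateField.inclusion hP1).toRingHom hs'))
  exact ⟨R, hR, fun R' hle h' => hmax h' hle⟩

/-- A real closed field: nonnegative elements are squares, and there are no extensions of odd degree. -/
structure IsRealClosedAux (R : Type u) [Field R] [LinearOrder R] : Prop where
  sq : ∀ a : R, 0 ≤ a → ∃ b, b * b = a
  odd : ∀ (N : Type u) [Field N] [Algebra R N] [FiniteDimensional R N], Odd (Module.finrank R N) →
    Module.finrank R N = 1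

theorem exists_real_closure (K : Type u) [Field K] [LinearOrder K] [IsStrictOrderedRing K] :
    ∃ (R : IntermediateField K (AlgebraicClosure K)) (_ : LinearOrder R) (_ : IsStrictOrderedRing R),
      IsRealClosedAux R := by
  obtain ⟨R, hR, hmax⟩ := exists_maximal_semireal K (IsSemireal.not_isSumSq_neg_one K)
  obtain ⟨L, hL⟩ := exists_ordering hR
  refine ⟨R, L, hL, ?_⟩
  letI := L
  haveI := hL
  let Ω := AlgebraicClosure K
  have hmem : ∀ x : Ω, ¬ IsSumSq (-1 : R⟮x⟯) → ∃ b : R, (b : Ω) = x := by
    intro x hx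
    let R' : IntermediateField K Ω := R⟮x⟯.restrictScalars K
    have hle : R ≤ R' := fun y hy => R⟮x⟯.algebraMap_mem ⟨y, hy⟩
    have hR' : ¬ IsSumSq (-1 : R') := fun h => hx (by
      let g : R' →+* R⟮x⟯ :=
        { toFun := fun y => ⟨y.1, y.2⟩, map_one' := rfl, map_mul' := fun _ _ => rfl, map_zero' := rfl,
          map_add' := fun _ _ => rfl }
      have := isSumSq_map g h
      rwa [map_neg, map_one] at this)
    exact ⟨⟨x, hmax R' hle hR' (IntermediateField.mem_adjoin_simple_self R x)⟩, rfl⟩
  haveI : Algebra.IsAlgebraic R Ω := Algebra.IsAlgebraic.tower_top (K := K) R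
  have hint : ∀ y : Ω, IsIntegral R y := fun y => (Algebra.IsAlgebraic.isAlgebraic y).isIntegral
  have hrep : ∀ x : Ω, ∀ y : R⟮x⟯, ∃ f : R[X], aeval x f = (y : Ω) := by
    intro x y
    have hy : (y : Ω) ∈ R⟮x⟯.toSubalgebra := y.2
    rw [IntermediateField.adjoin_simple_toSubalgebra_of_isAlgebraic (Algebra.IsAlgebraic.isAlgebraic x),
      Algebra.adjoin_singleton_eq_range_aeval] at hy
    exact hy
  refine ⟨fun a ha => ?_, fun N _ _ _ hodd => ?_⟩
  · obtain ⟨w, hw⟩ := IsAlgClosed.exists_eq_mul_self (algebraMap R Ω a)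
    by_contra hsq
    have hwR : ¬ ∃ b : R, (b : Ω) = w := fun ⟨b, hb⟩ => hsq ⟨b, (algebraMap R Ω).injective (by
      rw [map_mul, hw]; show (b : Ω) * b = _; rw [hb])⟩
    refine hwR (hmem w fun h => ?_)
    have hlin : ∀ f : R[X], ∃ u v : R, aeval w f = algebraMap R Ω u + algebraMap R Ω v * w := by
      intro f
      induction f using Polynomial.induction_on with
      | C a => exact ⟨a, 0, by simp⟩
      | add p q hp hq =>
        obtain ⟨u, v, hp⟩ := hp
        obtain ⟨u', v', hq⟩ := hq
        exact ⟨u + u', v + v', by rw [map_add, hp, hq, map_add, map_add]; ring⟩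
      | monomial n c hn =>
        obtain ⟨u, v, hn⟩ := hn
        refine ⟨v * a, u, ?_⟩
        rw [pow_succ, ← mul_assoc, map_mul, hn, aeval_X, add_mul, mul_assoc, ← hw, ← map_mul]
        ring
    suffices ∀ s : R⟮w⟯, IsSumSq s → ∃ u v : R, 0 ≤ u ∧ (s : Ω) = algebraMap R Ω u + algebraMap R Ω v * w by
      obtain ⟨u, v, hu, e⟩ := this _ h
      have e' : (-1 : Ω) = algebraMap R Ω u + algebraMap R Ω v * w := e
      by_cases hv : v = 0
      · rw [hv, map_zero, zero_mul, add_zero] at e'
        have : (-1 : R) = u := (algebraMap R Ω).injective (by rw [map_neg, map_one]; exact e')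
        linarith
      · refine hwR ⟨(-1 - u) / v, ?_⟩
        show algebraMap R Ω ((-1 - u) / v) = w
        rw [map_div₀, map_sub, map_neg, map_one, e', div_eq_iff ((_root_.map_ne_zero _).2 hv)]
        ring
    intro s hs
    induction hs using IsSumSq.rec' with
    | zero => exact ⟨0, 0, le_rfl, by simp⟩
    | sq_add hx hy ih =>
      obtain ⟨b, rfl⟩ := hx
      obtain ⟨u, v, hu, e⟩ := ih
      obtain ⟨f, hf⟩ := hrep w b
      obtain ⟨x, y, hxy⟩ := hlin f
      refine ⟨x * x + a * (y * y) + u, 2 * x * y + v, by nlinarith [mul_self_nonneg x, mul_nonneg ha (mul_self_nonneg y)], ?_⟩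
      show (b : Ω) * b + _ = _
      rw [← hf, hxy, e]
      simp only [map_add, map_mul, map_ofNat]
      rw [hw]
      ring
  · let φ : N →ₐ[R] Ω := IsAlgClosed.lift
    have key : φ.fieldRange = ⊥ := by
      refine eq_bot_iff.2 fun y hy => ?_
      obtain ⟨z, rfl⟩ := hy
      have hd : (minpoly R z).natDegree ∣ Module.finrank R N := minpoly.degree_dvd (IsIntegral.of_finite R z)
      rw [← minpoly.algHom_eq φ φ.injective z] at hd
      have ho : Odd (minpoly R (φ z)).natDegree := hodd.of_dvd_nat hd
      obtain ⟨b, hb⟩ := hmem (φ z) fun h => by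
        suffices ∀ s : R⟮φ z⟯, IsSumSq s → ∃ l : List R[X], aeval (φ z) (l.map fun f => f * f).sum = (s : Ω) by
          obtain ⟨l, hl⟩ := this _ h
          refine not_dvd_one_add_sum _ _ (minpoly.irreducible (hint (φ z))) rfl ho l (minpoly.dvd R _ ?_)
          rw [map_add, map_one, hl]
          exact add_neg_cancel (1 : Ω)
        intro s hs
        induction hs using IsSumSq.rec' with
        | zero => exact ⟨[], by simp⟩
        | sq_add hx hy ih =>
          obtain ⟨b, rfl⟩ := hx
          obtain ⟨l, hl⟩ := ih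
          obtain ⟨f, hf⟩ := hrep _ b
          refine ⟨f :: l, ?_⟩
          rw [List.map_cons, List.sum_cons, map_add, map_mul, hf, hl]
          rfl
      exact IntermediateField.mem_bot.2 ⟨b, hb⟩
    rw [(show N ≃ₐ[R] φ.fieldRange from AlgEquiv.ofInjectiveField φ).toLinearEquiv.finrank_eq, key,
      IntermediateField.finrank_bot]

variable {R : Type u} [Field R] [LinearOrder R] [IsStrictOrderedRing R]

theorem exists_sqrt (h : IsRealClosedAux R) {C : Type u} [Field C] [Algebra R C] (i : C) (hi : i * i = -1)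
    (x y : R) : ∃ c : C, c * c = algebraMap R C x + algebraMap R C y * i := by
  by_cases hy : y = 0
  · subst hy
    rcases le_total 0 x with hx | hx
    · obtain ⟨b, hb⟩ := h.sq x hx
      exact ⟨algebraMap R C b, by rw [← map_mul, hb, map_zero, zero_mul, add_zero]⟩
    · obtain ⟨b, hb⟩ := h.sq (-x) (neg_nonneg.2 hx)
      refine ⟨algebraMap R C b * i, ?_⟩
      rw [mul_mul_mul_comm, ← map_mul, hb, hi, map_neg, map_zero, zero_mul, add_zero]
      ring
  obtain ⟨r₀, hr₀⟩ := h.sq (x * x + y * y) (add_nonneg (mul_self_nonneg x) (mul_self_nonneg y))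
  have hlt : 0 < y * y := mul_self_pos.2 hy
  have hr : |r₀| * |r₀| = x * x + y * y := by rw [abs_mul_abs_self, hr₀]
  have hpos : 0 < |r₀| + x := by
    by_contra hc
    nlinarith [abs_nonneg r₀]
  obtain ⟨u, hu⟩ := h.sq ((|r₀| + x) / 2) (by linarith)
  have hu0 : u ≠ 0 := fun h0 => by rw [h0, mul_zero] at hu; linarith
  let w := y / (2 * u)
  have hxy : 2 * u * w = y := mul_div_cancel₀ y (mul_ne_zero two_ne_zero hu0)
  have hww : w * w = (|r₀| - x) / 2 := by
    refine mul_right_cancel₀ (b := 2 * (|r₀| + x)) (mul_ne_zero two_ne_zero hpos.ne') ?_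
    linear_combination (2 * u * w + y) * hxy - hr + (-4 * (w * w)) * hu
  have hv : u * u - w * w = x := by rw [hu, hww]; ring
  refine ⟨algebraMap R C u + algebraMap R C w * i, ?_⟩
  rw [← hv, ← hxy]
  simp only [map_sub, map_mul, map_ofNat]
  linear_combination (algebraMap R C w * algebraMap R C w) * hi

/-- The quadratic extension of a real closed field has no extensions. -/
theorem finrank_eq_one_over_C (h : IsRealClosedAux R) (C : Type u) [Field C] [Algebra R C] [FiniteDimensional R C]
    (hsq : ∀ c : C, ∃ d : C, d * d = c) (N : Type u) [Field N] [Algebra C N] [FiniteDimensional C N] :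
    ¬ 2 ∣ Module.finrank C N := by
  haveI : CharZero R := inferInstance
  haveI : CharZero C := charZero_of_injective_algebraMap (algebraMap R C).injective
  haveI : Fact (Nat.Prime 2) := ⟨Nat.prime_two⟩
  intro hdvd
  let Ω := AlgebraicClosure N
  letI : Algebra R N := ((algebraMap C N).comp (algebraMap R C)).toAlgebra
  haveI : IsScalarTower R C N := IsScalarTower.of_algebraMap_eq fun _ => rfl
  haveI : FiniteDimensional R N := FiniteDimensional.trans R C N
  let M := IntermediateField.normalClosure R N (AlgebraicClosure N)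
  haveI : IsGalois R M := IsGalois.normalClosure R N (AlgebraicClosure N)
  let fN : N →ₐ[R] M := (IntermediateField.inclusion (IsScalarTower.toAlgHom R N Ω).fieldRange_le_normalClosure).comp
    (IsScalarTower.toAlgHom R N Ω).rangeRestrict
  letI : Algebra N M := fN.toRingHom.toAlgebra
  letI : Algebra C M := (fN.toRingHom.comp (algebraMap C N)).toAlgebra
  haveI : IsScalarTower C N M := IsScalarTower.of_algebraMap_eq fun _ => rfl
  haveI : IsScalarTower R C M := IsScalarTower.of_algebraMap_eq fun x => (fN.commutes x).symm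
  haveI : FiniteDimensional C M := Module.Finite.of_restrictScalars_finite R C M
  haveI : IsGalois C M := IsGalois.tower_top_of_isGalois R C M
  -- the Galois group over `R` is a `2`-group
  obtain ⟨P⟩ : Nonempty (Sylow 2 (M ≃ₐ[R] M)) := inferInstance
  let L := IntermediateField.fixedField (P : Subgroup (M ≃ₐ[R] M))
  have hidx : Module.finrank R L = (P : Subgroup (M ≃ₐ[R] M)).index := by
    have h1 := (P : Subgroup (M ≃ₐ[R] M)).card_mul_index
    rw [IsGalois.card_aut_eq_finrank, ← Module.finrank_mul_finrank R L M,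
      IntermediateField.finrank_fixedField_eq_card, mul_comm (Module.finrank R L)] at h1
    exact (Nat.eq_of_mul_eq_mul_left Nat.card_pos h1).symm
  have hL1 : Module.finrank R L = 1 := h.odd L (Nat.not_even_iff_odd.1 fun he =>
    P.not_dvd_index (hidx ▸ even_iff_two_dvd.1 he))
  have hP : IsPGroup 2 (M ≃ₐ[R] M) := by
    have hP := P.isPGroup'
    rw [Subgroup.index_eq_one.1 (hidx.symm.trans hL1)] at hP
    exact hP.of_equiv Subgroup.topEquiv
  obtain ⟨a, ha⟩ := IsPGroup.iff_card.1 hP
  -- a subgroup of index two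
  have hdM : 2 ∣ Module.finrank C M :=
    hdvd.trans (Dvd.intro _ (Module.finrank_mul_finrank C N M))
  have hcard : ∃ e, Nat.card (M ≃ₐ[C] M) = 2 ^ (e + 1) := by
    have h2 : Module.finrank C M ∣ 2 ^ a := by
      rw [← ha, IsGalois.card_aut_eq_finrank]
      exact Dvd.intro_left _ (Module.finrank_mul_finrank R C M)
    obtain ⟨e, -, he⟩ := (Nat.dvd_prime_pow Nat.prime_two).1 h2
    rcases e with _ | e
    · rw [he] at hdM; norm_num at hdM
    · exact ⟨e, by rw [IsGalois.card_aut_eq_finrank, he]⟩
  obtain ⟨e, he⟩ := hcard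
  obtain ⟨H, hH⟩ := Sylow.exists_subgroup_card_pow_prime 2 (n := e) (G := M ≃ₐ[C] M)
    (he ▸ pow_dvd_pow 2 (Nat.le_succ e))
  let Q := IntermediateField.fixedField H
  have hQ : Module.finrank C Q = 2 := by
    have h1 := Module.finrank_mul_finrank C Q M
    rw [IntermediateField.finrank_fixedField_eq_card, hH, ← IsGalois.card_aut_eq_finrank C M, he, pow_succ] at h1
    exact Nat.eq_of_mul_eq_mul_right (pow_pos two_pos e) (h1.trans (mul_comm _ _))
  obtain ⟨θ, hθ⟩ := Field.exists_primitive_element C Q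
  have hθd : (minpoly C θ).natDegree = 2 := by
    rw [← IntermediateField.adjoin.finrank (IsIntegral.of_finite C θ), hθ, IntermediateField.finrank_top', hQ]
  have hmon := minpoly.monic (IsIntegral.of_finite C θ)
  have hirr := minpoly.irreducible (IsIntegral.of_finite C θ)
  set p := minpoly C θ with hp
  have hp2 : p = X ^ 2 + Polynomial.C (p.coeff 1) * X + Polynomial.C (p.coeff 0) := by
    conv_lhs => rw [hmon.as_sum, hθd]
    simp [Finset.sum_range_succ]
    ring
  obtain ⟨d, hd⟩ := hsq (p.coeff 1 * p.coeff 1 - 4 * p.coeff 0)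
  have hroot : p.IsRoot ((-(p.coeff 1) + d) / 2) := by
    refine (congrArg (Polynomial.eval ((-(p.coeff 1) + d) / 2)) hp2).trans ?_
    simp only [eval_add, eval_pow, eval_X, eval_mul, eval_C]
    field_simp
    linear_combination hd
  have hdeg1 := degree_eq_one_of_irreducible_of_root hirr hroot
  rw [degree_eq_natDegree hmon.ne_zero, hθd] at hdeg1
  norm_num at hdeg1

/-- Above the quadratic extension, cohomology embeds two steps higher. -/
theorem cdF_zero_of_cyclic (k N : Type u) [Field k] [Field N] [Algebra k N] [FiniteDimensional k N] [IsGalois k N]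
    (hN : IsCyclic (N ≃ₐ[k] N)) {l : ℕ} (hNd : CdF N l 0) : ∀ (j d : ℕ), d ≤ j → CdF k l d → CdF k l 0 := by
  obtain ⟨σ, hσ⟩ := IsCyclic.exists_generator (α := N ≃ₐ[k] N)
  haveI := epi_eps k N
  haveI := mono_nrm k N
  obtain ⟨w, hS₁, hS₂⟩ := exists_shortExact (eps k N) (dif k N σ) (nrm k N) (dif_eps k N σ) (nrm_dif k N σ)
    (exact_dif_eps k N σ hσ) (exact_nrm_dif k N σ hσ)
  intro j
  induction j with
  | zero => exact fun d hd h => h.mono (by omega)
  | succ j ih =>
    intro d hd h
    refine ih (d - 1) (by omega) fun F hF q hq => subsingleton_of_forall_eq 0 fun x => eq_zero_of_top x ?_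
    have hB : ∀ m, 0 < m → ∀ a : Ext.{u + 1} (free (fieldEt k N)) F m, a = 0 := fun m hm a =>
      (subsingleton_ext_fieldEt k N hNd hF m hm).elim a 0
    generalize (Ext.mk₀ (toConst (EtCoh.top (Spec (CommRingCat.of k))))).comp x (zero_add q) = y
    by_cases hq2 : d < q
    · haveI := h F hF q hq2
      exact subsingleton_ext_top k q y
    let z : Ext.{u + 1} (kernel (eps k N)) F (q + 1) := hS₂.extClass.comp y (add_comm 1 q)
    let e : Ext.{u + 1} (free (EtCoh.top (Spec (CommRingCat.of k)))) F (q + 2) := hS₁.extClass.comp z (by omega)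
    have he : e = 0 := by
      haveI := h F hF (q + 2) (by omega)
      exact subsingleton_ext_top k (q + 2) e
    obtain ⟨a, ha⟩ := Ext.contravariant_sequence_exact₁ hS₁ F z (by omega : 1 + (q + 1) = q + 2) he
    have hz : z = 0 := by rw [← ha, hB (q + 1) (by omega) a, Ext.comp_zero]
    obtain ⟨b, hb⟩ := Ext.contravariant_sequence_exact₁ hS₂ F y (add_comm 1 q) hz
    rw [← hb, hB q (by omega) b, Ext.comp_zero]

theorem exists_sq_of_cdF_zero (k : Type u) [Field k] (h2 : ((2 : ℕ) : k) ≠ 0) (h : CdF k 2 0) (b : k) (hb : b ≠ 0) :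
    ∃ c : k, c * c = b := by
  let X := Spec (CommRingCat.of k)
  have hS := EtKummerLib.kummer_shortExact (CdOneLib.invertibleOn_field (n := 2) h2)
  obtain ⟨f, hf⟩ := exists_unitVal b hb
  haveI := h (EtCoh.mu X 2) (HensDvrCdLib.nsmul_id_mu X 2) 1 one_pos
  obtain ⟨g, hg⟩ := Ext.covariant_sequence_exact₃ (EtCoh.const X ℤ) hS (Ext.mk₀ f) (n₁ := 1) (by norm_num)
    (Subsingleton.elim (α := EtCoh.H X (EtCoh.mu X 2) 1) _ _)
  obtain ⟨g, rfl⟩ := (Ext.mk₀_bijective _ _).2 g
  rw [Ext.mk₀_comp_mk₀] at hg
  have hgf : g ≫ EtCoh.powMap X 2 = f := (Ext.mk₀_bijective _ _).1 hg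
  have h2g : g ≫ EtCoh.powMap X 2 = 2 • g := by
    show g ≫ (2 • 𝟙 _) = _
    rw [Preadditive.comp_nsmul, Category.comp_id]
  refine ⟨unitVal g, ?_⟩
  rw [← hf, ← hgf, h2g, unitVal_nsmul, sq]

/-- Orderable fields have infinite cohomological `2`-dimension. -/
theorem not_cdF_two (K : Type u) [Field K] [LinearOrder K] [IsStrictOrderedRing K] (d : ℕ) : ¬ CdF K 2 d := by
  intro h
  obtain ⟨R, L, hL, hRC⟩ := exists_real_closure K
  letI := L
  haveI := hL
  have hR : CdF R 2 d := CdFieldLib.cdK_algebraic h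
  have h2 : ((2 : ℕ) : R) ≠ 0 := by norm_num
  obtain ⟨i, hi⟩ := exists_root h2 (algebraMap R (SeparableClosure R) (-1))
  have hi' : i * i = -1 := by rw [← sq, hi, map_neg, map_one]
  have hiR : i ∉ Set.range (algebraMap R (SeparableClosure R)) := by
    rintro ⟨c, rfl⟩
    have : c * c = -1 := (algebraMap R (SeparableClosure R)).injective (by rw [map_mul, hi', map_neg, map_one])
    nlinarith [mul_self_nonneg c]
  obtain ⟨g, hg⟩ := exists_move i hiR
  have hgi : g i = -i := by
    have : g i ^ 2 = i ^ 2 := by rw [← map_pow, hi]; exact g.commutes _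
    exact (sq_eq_sq_iff_eq_or_eq_neg.1 this).resolve_left hg
  have hd2 : Module.finrank R R⟮i⟯ ≤ 2 := by
    refine (finrank_adjoin_le i (X ^ 2 - C (-1 : R)) (X_pow_sub_C_ne_zero two_pos _) ?_).trans_eq natDegree_X_pow_sub_C
    simp [sq, hi']
  have hgN : g i ∈ R⟮i⟯ := by
    rw [hgi]; exact neg_mem (IntermediateField.mem_adjoin_simple_self R i)
  obtain ⟨hG, hC, hn⟩ := isCyclic_adjoin i g hd2 hgN (fun j hj hj' => by
    obtain rfl : j = 1 := by omega
    rw [pow_one]; exact hg)
  haveI := hG
  haveI := finiteDimensional_adjoin i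
  let i' : R⟮i⟯ := ⟨i, IntermediateField.mem_adjoin_simple_self R i⟩
  have hi₁ : i' * i' = -1 := Subtype.ext hi'
  have hsq : ∀ c : R⟮i⟯, ∃ e : R⟮i⟯, e * e = c := by
    intro c
    obtain ⟨u, v, huv⟩ : ∃ u v : R, c = algebraMap R _ u + algebraMap R _ v * i' := by
      have pb := IntermediateField.adjoin.powerBasis (Algebra.IsIntegral.isIntegral (R := R) i)
      obtain ⟨f, hf⟩ : ∃ f : R[X], aeval i f = (c : SeparableClosure R) := by
        have hy : (c : SeparableClosure R) ∈ R⟮i⟯.toSubalgebra := c.2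
        rw [IntermediateField.adjoin_simple_toSubalgebra_of_isAlgebraic (Algebra.IsAlgebraic.isAlgebraic i),
          Algebra.adjoin_singleton_eq_range_aeval] at hy
        exact hy
      have hlin : ∀ f : R[X], ∃ u v : R, aeval i' f = algebraMap R _ u + algebraMap R _ v * i' := by
        intro f
        induction f using Polynomial.induction_on with
        | C a => exact ⟨a, 0, by simp⟩
        | add p q hp hq =>
          obtain ⟨u, v, hp⟩ := hp
          obtain ⟨u', v', hq⟩ := hq
          exact ⟨u + u', v + v', by rw [map_add, hp, hq, map_add, map_add]; ring⟩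
        | monomial n a hn =>
          obtain ⟨u, v, hn⟩ := hn
          refine ⟨-v, u, ?_⟩
          rw [pow_succ, ← mul_assoc, map_mul, hn, aeval_X, add_mul, mul_assoc, hi₁, map_neg]
          ring
      obtain ⟨u, v, huv⟩ := hlin f
      exact ⟨u, v, (Subtype.ext (hf.symm.trans (aeval_algHom_apply (R⟮i⟯.val) i' f))).trans huv⟩
    obtain ⟨e, he⟩ := exists_sqrt hRC i' hi₁ u v
    exact ⟨e, he.trans huv.symm⟩
  have hC0 : CdF R⟮i⟯ 2 0 := by
    haveI : Fact (Nat.Prime 2) := ⟨Nat.prime_two⟩
    exact HensDvrCdLib.cdK_zero_of_degrees fun N _ _ _ _ => finrank_eq_one_over_C hRC R⟮i⟯ hsq N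
  obtain ⟨c, hc⟩ := exists_sq_of_cdF_zero R h2 (cdF_zero_of_cyclic R R⟮i⟯ hC hC0 d d le_rfl hR) (-1) (by norm_num)
  nlinarith [mul_self_nonneg c]

end SerreCdLib
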