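import Groth.Agent.SerreCdLib.Local
import Groth.Agent.HensDvrCdLib.Upper
import Groth.Agent.HensFormalLib.Apps
import Groth.Agent.NormalLib.KrullAkizuki

/-!
# Henselian local rings of dimension one: the generic point adds at most one
-/

set_option autoImplicit false
set_option linter.unusedSectionVars false
set_option linter.style.haveILetI false
set_option backward.isDefEq.respectTransparency false
set_option backward.isDefEq.respectTransparency.types false
set_option synthInstance.maxHeartbeats 400000
set_option maxHeartbeats 1600000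

universe u

open CategoryTheory CategoryTheory.Limits AlgebraicGeometry Opposite IsLocalRing
open Groth.Agent CdFieldLib HensDvrCdLib

noncomputable section

namespace SerreCdLib

/-- Henselian discrete valuation rings. -/
theorem cdF_frac_dvr (V : Type u) [CommRing V] [IsDomain V] [IsDiscreteValuationRing V] [HenselianLocalRing V]
    (K : Type u) [Field K] [Algebra V K] [IsFractionRing V K] {l d : ℕ} (hl : 0 < l) (hlV : IsUnit (l : V))
    (h : CdF (ResidueField V) l d) : CdF K l (d + 1) := by
  obtain ⟨π, hπ⟩ := IsDiscreteValuationRing.exists_irreducible V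
  obtain ⟨V', _, _, _, _, _, φ, hφ, ⟨C⟩⟩ := exists_strict (R := V) π hπ
  exact cdK_generic_le V K hl
    (fun G hG s => isZero_Rpush_two V K π hπ φ hφ C hl hlV G hG (s + 2) (Nat.le_add_left 2 s)) h

/-- Henselian local domains of dimension one. -/
theorem cdF_frac_dim_one (A : Type u) [CommRing A] [IsDomain A] [IsNoetherianRing A] [HenselianLocalRing A]
    (hdim : ringKrullDim A ≤ 1) (hA : ¬ IsField A) {l d : ℕ} (hl : 0 < l) (hlA : IsUnit (l : A))
    (h : CdF (ResidueField A) l d) : CdF (FractionRing A) l (d + 1) := by
  let K := FractionRing A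
  haveI : Ring.DimensionLEOne A := (Ring.krullDimLE_one_iff_of_noZeroDivisors (R := A)).1
    (Ring.krullDimLE_iff.2 hdim) |> fun h => ⟨fun {p} h0 hp => h p h0 hp⟩
  let B := integralClosure A K
  have hBinj : Function.Injective (algebraMap B K) := Subtype.val_injective
  haveI : IsDomain B := hBinj.isDomain
  haveI : IsNoetherianRing B := NormalLib.isNoetherianRing_of_between (R := A) K (L := K) B hBinj
  haveI : IsFractionRing B K := integralClosure.isFractionRing_of_finite_extension K K
  haveI : IsIntegrallyClosed B := integralClosure.isIntegrallyClosedOfFiniteExtension K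
  haveI : Ring.DimensionLEOne B := Ring.DimensionLEOne.of_isIntegral A B
  haveI : IsDedekindDomain B := { }
  have hinj : Function.Injective (algebraMap A B) := fun a b e =>
    IsFractionRing.injective A K (congrArg Subtype.val e)
  haveI : FaithfulSMul A B := (faithfulSMul_iff_algebraMap_injective A B).2 hinj
  haveI : Algebra.IsIntegral A B := ⟨fun x => (isIntegral_algHom_iff (IsScalarTower.toAlgHom A B K) hBinj).1 x.2⟩
  obtain ⟨hB, hloc⟩ := HensFormalLib.henselian_of_integral_domain A B
  haveI := hB
  haveI := hloc
  have hm0 : maximalIdeal A ≠ ⊥ := fun e => hA ((IsLocalRing.isField_iff_maximalIdeal_eq).2 e)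
  haveI : IsDiscreteValuationRing B := by
    have hnf : ¬ IsField B := fun hf => hm0 ((Submodule.eq_bot_iff _).2 fun a ha => by
      by_contra ha0
      exact (mem_maximalIdeal a).1 ha (IsUnit.of_map (algebraMap A B) a
        (isUnit_iff_exists_inv.2 (hf.mul_inv_cancel ((map_ne_zero_iff _ hinj).2 ha0)))))
    exact ((IsDiscreteValuationRing.TFAE B hnf).out 0 2).2 ‹IsDedekindDomain B›
  -- the residue field is finite
  obtain ⟨x, hx, hx0⟩ := Submodule.exists_mem_ne_zero_of_ne_bot hm0
  have hfl := NormalLib.isFiniteLength_quot (R := A) K (L := K) B hBinj hx0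
  haveI : IsNoetherian A (B ⧸ (Ideal.span {x} • ⊤ : Submodule A B)) :=
    (isFiniteLength_iff_isNoetherian_isArtinian.1 hfl).1
  let f : B →ₗ[A] B ⧸ maximalIdeal B := (Ideal.Quotient.mkₐ A (maximalIdeal B)).toLinearMap
  have hf : (Ideal.span {x} • ⊤ : Submodule A B) ≤ LinearMap.ker f := by
    rw [Submodule.smul_le]
    intro r hr b _
    rw [LinearMap.mem_ker]
    show Ideal.Quotient.mk _ (r • b) = 0
    rw [Ideal.Quotient.eq_zero_iff_mem, Algebra.smul_def]
    refine Ideal.mul_mem_right _ _ ?_
    obtain ⟨c, rfl⟩ := Ideal.mem_span_singleton.1 hr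
    rw [map_mul]
    refine Ideal.mul_mem_right _ _ ((mem_maximalIdeal _).2 fun hu => (mem_maximalIdeal x).1 hx ?_)
    exact IsUnit.of_map (algebraMap A B) x hu
  haveI : Module.Finite A (ResidueField B) :=
    Module.Finite.of_surjective (Submodule.liftQ _ f hf : B ⧸ (Ideal.span {x} • ⊤ : Submodule A B) →ₗ[A] B ⧸ maximalIdeal B) fun y => by
      obtain ⟨b, rfl⟩ := Ideal.Quotient.mk_surjective y
      exact ⟨Submodule.Quotient.mk b, rfl⟩
  haveI : Algebra.IsAlgebraic (ResidueField A) (ResidueField B) := by
    haveI : Module.Finite (ResidueField A) (ResidueField B) := Module.Finite.of_restrictScalars_finite A _ _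
    infer_instance
  exact cdF_frac_dvr B K hl (by simpa using hlA.map (algebraMap A B)) (cdK_algebraic h)

end SerreCdLib
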