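import Groth.Agent.SerreCdLib.Tower
import Groth.Agent.HensDvrCdLib.Scheme
import Groth.Agent.EtLimSmoothLib.FieldBC
import Groth.Agent.S0642
import Mathlib.FieldTheory.SeparableClosure

/-!
# The residue field of a local ring has smaller cohomological dimension than the generic points
-/

set_option autoImplicit false
set_option linter.unusedSectionVars false
set_option linter.style.haveILetI false
set_option backward.isDefEq.respectTransparency false
set_option backward.isDefEq.respectTransparency.types false
set_option synthInstance.maxHeartbeats 400000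
set_option maxHeartbeats 1600000

universe u

open CategoryTheory CategoryTheory.Limits CategoryTheory.Abelian AlgebraicGeometry Opposite IsLocalRing
open Groth.Agent Groth.Agent.EtShLib CdFieldLib HensDvrCdLib

attribute [local instance] EtSliceLib.pullExact

noncomputable section

namespace SerreCdLib

theorem cdF_of_surjective {K L : Type u} [Field K] [Field L] (f : K →+* L) (hf : Function.Surjective f) {l d : ℕ}
    (h : CdF K l d) : CdF L l d := by
  letI := f.toAlgebra
  haveI : Module.Finite K L := RingHom.finite_algebraMap.1 (RingHom.Finite.of_surjective f hf)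
  exact cdK_algebraic h

theorem cdF_of_ringEquiv {K L : Type u} [Field K] [Field L] (e : K ≃+* L) {l d : ℕ} (h : CdF K l d) : CdF L l d :=
  cdF_of_surjective e.toRingHom e.surjective h

/-- Purely inseparable extensions do not change it. -/
theorem cdF_insep (K L : Type u) [Field K] [Field L] [Algebra K L] [IsPurelyInseparable K L] {l d : ℕ}
    (h : CdF L l d) : CdF K l d := fun F hF q hq => by
  obtain ⟨a1, a2, a3⟩ := EtLimSmoothLib.uh_of_purelyInseparable K L
  let i := Spec.map (CommRingCat.ofHom (algebraMap K L))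
  haveI : IsIntegralHom i := a1
  haveI : UniversallyInjective i := a2
  haveI : Surjective i := a3
  haveI : (EtCoh.pull i).Additive := (EtCoh.pullPushAdj i).left_adjoint_additive
  haveI : Subsingleton (EtCoh.H (Spec (CommRingCat.of L)) ((EtCoh.pull i).obj F) q) :=
    h _ (by rw [← CategoryTheory.Functor.map_id, ← Functor.map_nsmul, hF, Functor.map_zero]) q hq
  exact (Groth.Agent.S0642.result i F q).1.subsingleton

/-- Serre's theorem for finite extensions. -/
theorem cdF_descend_finite (K L : Type u) [Field K] [Field L] [Algebra K L] [FiniteDimensional K L] {l d : ℕ}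
    (hl : l.Prime) (hlK : (l : K) ≠ 0) (hord : l ≠ 2 ∨ ¬ ∃ _ : LinearOrder K, IsStrictOrderedRing K)
    (h : CdF L l d) : CdF K l d :=
  cdF_descend hl hlK hord (separableClosure K L) (cdF_insep (separableClosure K L) L h)

theorem cdF_descend_hom {K L : Type u} [Field K] [Field L] (f : K →+* L) (hf : f.Finite) {l d : ℕ}
    (hl : l.Prime) (hlK : (l : K) ≠ 0) (hord : l ≠ 2 ∨ ¬ ∃ _ : LinearOrder K, IsStrictOrderedRing K)
    (h : CdF L l d) : CdF K l d := by
  letI := f.toAlgebra
  haveI : FiniteDimensional K L := RingHom.finite_algebraMap.1 hf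
  exact cdF_descend_finite K L hl hlK hord h

theorem natCast_residue_ne_zero {A : Type u} [CommRing A] [IsLocalRing A] {l : ℕ} (hlA : IsUnit (l : A)) :
    (l : ResidueField A) ≠ 0 := by
  simpa using (hlA.map (residue A)).ne_zero

/-- The residue field of a noetherian local domain, below finite extensions of its fraction field. -/
theorem residue_domain {l : ℕ} [hl : Fact l.Prime] : ∀ (d m : ℕ) (A : Type u) [CommRing A] [IsDomain A]
    [IsNoetherianRing A] [IsLocalRing A] (_ : IsUnit (l : A))
    (_ : l ≠ 2 ∨ ¬ ∃ _ : LinearOrder (ResidueField A), IsStrictOrderedRing (ResidueField A))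
    (L : Type u) [Field L] [Algebra (FractionRing A) L] [FiniteDimensional (FractionRing A) L]
    (_ : CdF L l d) (_ : (m : WithBot ℕ∞) ≤ ringKrullDim A), m ≤ d ∧ CdF (ResidueField A) l (d - m) := by
  intro d
  induction d using Nat.strong_induction_on with
  | _ d ih =>
    intro m A _ _ _ _ hlA hord L _ _ _ hcd hm
    by_cases hfield : IsField A
    · have hm0 : m = 0 := by
        rw [ringKrullDim_eq_zero_of_isField hfield] at hm
        exact_mod_cast Nat.le_zero.1 (by exact_mod_cast hm)
      subst hm0
      refine ⟨Nat.zero_le _, ?_⟩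
      have hm : maximalIdeal A = ⊥ := (IsLocalRing.isField_iff_maximalIdeal_eq).1 hfield
      let e : A ≃+* ResidueField A := RingEquiv.ofBijective (residue A) ⟨(injective_iff_map_eq_zero _).2 fun a ha => by
        have := (residue_eq_zero_iff a).1 ha
        rwa [hm, Ideal.mem_bot] at this, residue_surjective⟩
      let eK : A ≃+* FractionRing A := RingEquiv.ofBijective (algebraMap A (FractionRing A))
        ⟨IsFractionRing.injective _ _, fun y => by
          obtain ⟨a, b, hb, rfl⟩ := IsFractionRing.div_surjective A y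
          obtain ⟨c, hc⟩ := hfield.mul_inv_cancel (nonZeroDivisors.ne_zero hb)
          exact ⟨a * c, by
            rw [eq_div_iff ((map_ne_zero_iff _ (IsFractionRing.injective _ _)).2 (nonZeroDivisors.ne_zero hb)),
              ← map_mul, mul_assoc, mul_comm c, hc, mul_one]⟩⟩
      exact cdF_descend_hom ((algebraMap (FractionRing A) L).comp (e.symm.trans eK).toRingHom)
        (RingHom.Finite.comp (RingHom.finite_algebraMap.2 inferInstance)
          (RingHom.Finite.of_surjective _ (e.symm.trans eK).surjective))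
        hl.out (natCast_residue_ne_zero hlA) hord hcd
    -- a positive bound
    have h1 : ((max m 1 : ℕ) : WithBot ℕ∞) ≤ ringKrullDim A := by
      have h0 : (1 : WithBot ℕ∞) ≤ ringKrullDim A := by
        have hne : maximalIdeal A ≠ ⊥ := fun h => hfield ((IsLocalRing.isField_iff_maximalIdeal_eq).2 h)
        refine Order.le_krullDim_iff.2 ⟨RelSeries.cons (RelSeries.singleton _ (IsLocalRing.closedPoint A))
          ⟨⊥, Ideal.isPrime_bot⟩ ?_, rfl⟩
        exact (PrimeSpectrum.asIdeal_lt_asIdeal _ _).1 (bot_lt_iff_ne_bot.2 hne)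
      rcases le_total m 1 with h | h
      · rw [max_eq_right h]; exact_mod_cast h0
      · rwa [max_eq_left h]
    suffices key : max m 1 ≤ d ∧ CdF (ResidueField A) l (d - max m 1) from
      ⟨le_trans (le_max_left m 1) key.1, key.2.mono (Nat.sub_le_sub_left (le_max_left m 1) d)⟩
    obtain ⟨m', hm'⟩ : ∃ m', max m 1 = m' + 1 := ⟨max m 1 - 1, by omega⟩
    rw [hm'] at h1 ⊢
    clear hm'
    obtain ⟨c, hc⟩ := Order.le_krullDim_iff.1 h1
    have hlt : c.toFun ⟨0, by omega⟩ < c.toFun ⟨1, by omega⟩ := c.strictMono (Fin.mk_lt_mk.2 Nat.zero_lt_one)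
    have hp : (c.toFun ⟨1, by omega⟩).asIdeal ≠ ⊥ := fun h => by
      have h' := PrimeSpectrum.asIdeal_lt_asIdeal _ _ |>.2 hlt
      rw [h] at h'
      exact not_lt_bot h'
    obtain ⟨q, hqp, hqle, hq0, hht⟩ := exists_height_one_le (c.toFun ⟨1, by omega⟩).asIdeal hp
    haveI := hqp
    have hdimq : (m' : WithBot ℕ∞) ≤ ringKrullDim (A ⧸ q) := by
      refine Order.le_krullDim_iff.2 ⟨⟨m', fun i => (PrimeSpectrum.mk
        ((c.toFun ⟨i.val + 1, by omega⟩).asIdeal.map (Ideal.Quotient.mk q))
        (Ideal.map_isPrime_of_surjective Ideal.Quotient.mk_surjective (by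
          rw [Ideal.mk_ker]
          exact hqle.trans ((PrimeSpectrum.asIdeal_le_asIdeal _ _).2 (c.monotone (Fin.mk_le_mk.2 (by omega))))))),
        fun i => ?_⟩, rfl⟩
      have hle : ∀ k : Fin (m' + 1), q ≤ (c.toFun ⟨k.val + 1, by omega⟩).asIdeal := fun k =>
        hqle.trans ((PrimeSpectrum.asIdeal_le_asIdeal _ _).2 (c.monotone (Fin.mk_le_mk.2 (by omega))))
      have h1 := (PrimeSpectrum.asIdeal_lt_asIdeal _ _).2
        (c.strictMono (show (⟨i.val + 1, by omega⟩ : Fin (c.length + 1)) < ⟨i.val + 1 + 1, by omega⟩ from Fin.mk_lt_mk.2 (by omega)))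
      refine (PrimeSpectrum.asIdeal_lt_asIdeal _ _).1 (lt_of_le_of_ne (Ideal.map_mono h1.le) fun e => h1.ne ?_)
      have e' := congrArg (Ideal.comap (Ideal.Quotient.mk q)) e
      simp only [Ideal.comap_map_of_surjective _ Ideal.Quotient.mk_surjective, ← RingHom.ker_eq_comap_bot,
        Ideal.mk_ker] at e'
      exact ((sup_eq_left.2 (hle i.castSucc)).symm.trans e').trans (sup_eq_left.2 (hle i.succ))
    letI : Algebra A L := ((algebraMap (FractionRing A) L).comp (algebraMap A (FractionRing A))).toAlgebra
    haveI : IsScalarTower A (FractionRing A) L := IsScalarTower.of_algebraMap_eq fun _ => rfl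
    obtain ⟨V, _, _, _, _, _, φ, θ, hθ, hφ⟩ := exists_dvr_over q hq0 hht L
    obtain ⟨H, _, _, _, _, ψ, hψ, ⟨eH⟩⟩ := exists_henselization V L
    letI := ψ.toAlgebra
    haveI := hψ
    have hcdH : CdF (FractionRing H) l d := CdFieldLib.cdK_algebraic hcd
    have hlV : IsUnit (l : ResidueField V) := by simpa using ((hlA.map θ).map (residue V))
    have hlH : IsUnit (l : H) := by
      have h1 : IsUnit (residue H (l : H)) := by simpa using hlV.map eH.toRingHom
      exact (isUnit_map_iff (residue H) _).1 h1
    obtain ⟨hd1, hres⟩ := cdK_residue H (FractionRing H) hlH d hcdH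
    haveI : IsLocalRing (A ⧸ q) := IsLocalRing.of_surjective' _ Ideal.Quotient.mk_surjective
    haveI : IsLocalHom (Ideal.Quotient.mk q) := IsLocalHom.of_surjective _ Ideal.Quotient.mk_surjective
    let er : ResidueField A ≃+* ResidueField (A ⧸ q) :=
      RingEquiv.ofBijective (ResidueField.map (Ideal.Quotient.mk q)) ⟨RingHom.injective _, fun y => by
        obtain ⟨b, rfl⟩ := residue_surjective y
        obtain ⟨a, rfl⟩ := Ideal.Quotient.mk_surjective b
        exact ⟨residue A a, ResidueField.map_residue _ a⟩⟩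
    letI : Algebra (FractionRing (A ⧸ q)) (ResidueField H) := (eH.toRingHom.comp φ).toAlgebra
    haveI : FiniteDimensional (FractionRing (A ⧸ q)) (ResidueField H) :=
      RingHom.Finite.comp (RingHom.Finite.of_surjective _ eH.surjective) hφ
    obtain ⟨h2, h3⟩ := ih (d - 1) (by omega) m' (A ⧸ q) (by simpa using hlA.map (Ideal.Quotient.mk q))
      (hord.imp id fun hn => not_orderable_of_algebra er.toRingHom hn) (ResidueField H) hres hdimq
    refine ⟨by omega, cdF_of_ringEquiv er.symm ?_⟩
    rwa [show d - (m' + 1) = d - 1 - m' by omega]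

/-- The residue field of a noetherian local ring, below its generic points. -/
theorem residue_local {l : ℕ} [hl : Fact l.Prime] (A : Type u) [CommRing A] [IsNoetherianRing A] [IsLocalRing A]
    (hlA : IsUnit (l : A)) (hord : l ≠ 2 ∨ ¬ ∃ _ : LinearOrder (ResidueField A), IsStrictOrderedRing (ResidueField A))
    (m d : ℕ) (hm : (m : WithBot ℕ∞) ≤ ringKrullDim A)
    (hd : ∀ P ∈ minimalPrimes A, ∀ [P.IsPrime], CdF (FractionRing (A ⧸ P)) l d) :
    m ≤ d ∧ CdF (ResidueField A) l (d - m) := by
  obtain ⟨P, hP, hn⟩ := exists_minimal_chain hm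
  haveI : P.IsPrime := hP.1.1
  haveI : IsLocalRing (A ⧸ P) := IsLocalRing.of_surjective' _ Ideal.Quotient.mk_surjective
  haveI : IsLocalHom (Ideal.Quotient.mk P) := IsLocalHom.of_surjective _ Ideal.Quotient.mk_surjective
  let er : ResidueField A ≃+* ResidueField (A ⧸ P) :=
    RingEquiv.ofBijective (ResidueField.map (Ideal.Quotient.mk P)) ⟨RingHom.injective _, fun y => by
      obtain ⟨b, rfl⟩ := residue_surjective y
      obtain ⟨a, rfl⟩ := Ideal.Quotient.mk_surjective b
      exact ⟨residue A a, ResidueField.map_residue _ a⟩⟩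
  obtain ⟨h1, h2⟩ := residue_domain (l := l) d m (A ⧸ P) (by simpa using hlA.map (Ideal.Quotient.mk P))
    (hord.imp id fun hn => not_orderable_of_algebra er.toRingHom hn) (FractionRing (A ⧸ P)) (hd P hP) hn
  exact ⟨h1, cdF_of_ringEquiv er.symm h2⟩

end SerreCdLib
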