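import Groth.Agent.SerreCdLib.Local
import Groth.Agent.S3491
import Groth.Agent.EtCdLocalLib.Spec
import Groth.Agent.EquidimLib.DimBetween

/-!
# The cohomological dimension of a scheme from that of its generic points
-/

set_option autoImplicit false
set_option linter.unusedSectionVars false
set_option linter.style.haveILetI false
set_option backward.isDefEq.respectTransparency false
set_option backward.isDefEq.respectTransparency.types false
set_option synthInstance.maxHeartbeats 400000
set_option maxHeartbeats 1600000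

universe u

open CategoryTheory CategoryTheory.Limits AlgebraicGeometry Opposite IsLocalRing
open Groth.Agent CdFieldLib HensDvrCdLib EquidimLib

noncomputable section

namespace SerreCdLib

variable {X : Scheme.{u}} [IsNoetherian X]

/-- The residue fields below the generic points. -/
theorem residue_point {l : ℕ} [hl : Fact l.Prime] (hX : ∀ y : X, (l : X.residueField y) ≠ 0) (y : X)
    (hord : l ≠ 2 ∨ ¬ ∃ _ : LinearOrder (X.residueField y), IsStrictOrderedRing (X.residueField y)) (d n : ℕ)
    (hd : ∀ x : X, closure {x} ∈ irreducibleComponents (X : Type u) → CdK (Spec (X.residueField x)) l d)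
    (hn : ringKrullDim (X.presheaf.stalk y) = n) :
    n ≤ d ∧ CdK (Spec (X.residueField y)) l (d - n) := by
  let T := X.presheaf.stalk y
  haveI : IsNoetherianRing T := inferInstance
  have hlT : IsUnit (l : T) := by
    refine (isUnit_map_iff (IsLocalRing.residue T) _).1 ?_
    rw [map_natCast]
    exact IsUnit.mk0 (G₀ := X.residueField y) _ (hX y)
  refine residue_local (l := l) T hlT hord n d hn.ge fun P hP _ => ?_
  let pP : Spec T := ⟨P, hP.1.1⟩
  let x := (X.fromSpecStalk y).base pP
  have hmax : closure {x} ∈ irreducibleComponents (X : Type u) := by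
    refine ⟨isIrreducible_singleton.closure, fun Z hZ hle => ?_⟩
    obtain ⟨z, hz⟩ := QuasiSober.sober hZ.closure isClosed_closure
    have hzx : z ⤳ x := hz.specializes (subset_closure (hle (subset_closure (Set.mem_singleton x))))
    have hzy : z ∈ Set.range (X.fromSpecStalk y).base := by
      rw [Scheme.range_fromSpecStalk]
      refine hzx.trans ?_
      have hxy : x ∈ Set.range (X.fromSpecStalk y).base := ⟨pP, rfl⟩
      rw [Scheme.range_fromSpecStalk] at hxy
      exact hxy
    obtain ⟨pz, hpz⟩ := hzy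
    have h1 : pz ⤳ pP := by
      rw [← (X.fromSpecStalk y).isEmbedding.isInducing.specializes_iff, hpz]
      exact hzx
    have h2 : P ≤ pz.asIdeal := hP.2 ⟨pz.2, bot_le⟩ ((PrimeSpectrum.le_iff_specializes _ _).2 h1)
    have h3 : z = x := by
      rw [← hpz, show pz = pP from PrimeSpectrum.ext (le_antisymm ((PrimeSpectrum.le_iff_specializes _ _).2 h1) h2)]
    intro w hw
    have h4 : w ∈ closure ({z} : Set X) := by rw [hz.def]; exact subset_closure hw
    rwa [h3] at h4
  let g := X.fromSpecStalk y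
  haveI : IsIso (g.residueFieldMap pP) := by
    refine (ConcreteCategory.isIso_iff_bijective _).2 ⟨RingHom.injective _, fun a => ?_⟩
    obtain ⟨b, rfl⟩ := Ideal.Quotient.mk_surjective a
    obtain ⟨c, rfl⟩ := g.stalkMap_surjective pP b
    exact ⟨IsLocalRing.residue _ c, rfl⟩
  let e₁ : (Spec T).residueField pP ≅ X.residueField x := (asIso (g.residueFieldMap pP)).symm
  let e₂ : CommRingCat.of P.ResidueField ≅ X.residueField x := (Scheme.Spec.residueFieldIso T pP).symm ≪≫ e₁
  let e₃ : CommRingCat.of (FractionRing (T ⧸ P)) ≅ CommRingCat.of P.ResidueField :=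
    (FractionRing.algEquiv (T ⧸ P) P.ResidueField).toRingEquiv.toCommRingCatIso
  exact CdFieldLib.cdK_finite (Spec.map (e₃ ≪≫ e₂).inv) (hd x hmax)

/-- The dimension of the closure of a point, inside the local rings. -/
def clDim (x : X) : ℕ := sSup {n : ℕ | ∃ z, x ⤳ z ∧ dimBetween x z = n}

theorem dimBetween_le_nat {m : ℕ} (hm : topologicalKrullDim X ≤ m) (x z : X) : dimBetween x z ≤ (m : WithBot ℕ∞) :=
  (Topology.IsInducing.subtypeVal.topologicalKrullDim_le).trans hm

theorem bddAbove_clDim {m : ℕ} (hm : topologicalKrullDim X ≤ m) (x : X) :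
    BddAbove {n : ℕ | ∃ z, x ⤳ z ∧ dimBetween x z = n} :=
  ⟨m, fun n ⟨z, _, hn⟩ => by
    have h : (n : WithBot ℕ∞) ≤ (m : WithBot ℕ∞) := hn ▸ dimBetween_le_nat hm x z
    exact_mod_cast h⟩

theorem le_clDim {m : ℕ} (hm : topologicalKrullDim X ≤ m) {x z : X} (h : x ⤳ z) {n : ℕ} (hn : dimBetween x z = n) :
    n ≤ clDim x := le_csSup (bddAbove_clDim hm x) ⟨z, h, hn⟩

theorem clDim_spec {m : ℕ} (hm : topologicalKrullDim X ≤ m) (x : X) : ∃ z, x ⤳ z ∧ dimBetween x z = clDim x :=
  Nat.sSup_mem (s := {n : ℕ | ∃ z, x ⤳ z ∧ dimBetween x z = n}) ⟨0, x, specializes_rfl, dimBetween_self x⟩ (bddAbove_clDim hm x)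

theorem clDim_le {m : ℕ} (hm : topologicalKrullDim X ≤ m) (x : X) : clDim x ≤ m :=
  csSup_le (s := {n : ℕ | ∃ z, x ⤳ z ∧ dimBetween x z = n}) ⟨0, x, specializes_rfl, dimBetween_self x⟩ fun n ⟨z, _, hn⟩ => by
    have h : (n : WithBot ℕ∞) ≤ (m : WithBot ℕ∞) := hn ▸ dimBetween_le_nat hm x z
    exact_mod_cast h

/-- The bound. -/
theorem cohDimLEAt_generic_add_dim {l : ℕ} (hl : l.Prime) (hX : ∀ y : X, (l : X.residueField y) ≠ 0) {m : ℕ}
    (hm : topologicalKrullDim X ≤ m)
    (h2 : ∀ (x y : X) (hxy : x ⤳ y) (δ : ℕ), dimBetween x y = δ → ∀ (R : Type u) [CommRing R] [IsLocalRing R]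
      [Algebra (X.presheaf.stalk y) R] [IsLocalHom (algebraMap (X.presheaf.stalk y) R)]
      [Hensel.IsStrictHenselization (X.presheaf.stalk y) R],
      ∀ P ∈ ((RingHom.ker (Cyc.specMap y x hxy)).map (algebraMap (X.presheaf.stalk y) R)).minimalPrimes,
        Dix.CohDimLEAt (Spec (CommRingCat.of (FractionRing (R ⧸ P)))) l δ)
    (hord : ∀ x : X, l ≠ 2 ∨ ¬ ∃ _ : LinearOrder (X.residueField x), IsStrictOrderedRing (X.residueField x))
    (c : ℕ) (hc : ∀ x : X, closure {x} ∈ irreducibleComponents (X : Type u) →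
      Dix.CohDimLEAt (Spec (X.residueField x)) l c) :
    Dix.CohDimLEAt X l (c + m) := by
  haveI : Fact l.Prime := ⟨hl⟩
  choose ht hht using fun x : X => exists_stalk_dim_eq_nat x
  have hres : ∀ x : X, ht x ≤ c ∧ CdK (Spec (X.residueField x)) l (c - ht x) := fun x =>
    residue_point hX x (hord x) c (ht x) (fun z hz => cdK_of_at (hc z hz)) (hht x)
  intro G hG q hq
  refine Groth.Agent.S3491.result X l hl (fun x => (c - ht x) + clDim x) (fun x F hF p hp => ?_)
    (fun x y hxy hne R _ _ _ _ _ P hP => ?_) G hG q (fun x _ => by have := clDim_le hm x; omega)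
  · haveI := isNoetherian_spec_field (X.residueField x)
    exact cohDimLEAt_of_cdK (X := Spec (X.residueField x)) hl (hres x).2 F hF p (by omega)
  obtain ⟨δ, hδ⟩ := exists_dimBetween_eq_nat hxy
  refine ⟨δ, ?_, h2 x y hxy δ hδ R P hP⟩
  have e1 : 1 ≤ δ := by
    have := one_le_dimBetween hxy hne
    rw [hδ] at this
    exact_mod_cast this
  have e2 : ht x + δ ≤ ht y := by
    have := stalk_dim_add_le hxy
    rw [hht x, hδ, hht y] at this
    exact_mod_cast this
  have e3 : δ + clDim y ≤ clDim x := by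
    obtain ⟨z, hyz, hz⟩ := clDim_spec hm y
    obtain ⟨N, hN⟩ := exists_dimBetween_eq_nat (hxy.trans hyz)
    have := dimBetween_add_le hxy hyz
    rw [hδ, hz, hN] at this
    exact (by exact_mod_cast this : δ + clDim y ≤ N).trans (le_clDim hm (hxy.trans hyz) hN)
  have e4 := (hres y).1
  omega

end SerreCdLib
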