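import Mathlib.Algebra.Order.Ring.Ordering.Basic
import Mathlib.Algebra.Order.Ring.Cone
import Mathlib.Algebra.Ring.Semireal.Defs
import Mathlib.Algebra.Ring.SumsOfSquares
import Mathlib.Order.Zorn

/-! Artin–Schreier: a field in which `-1` is not a sum of squares admits an ordering. -/

set_option autoImplicit false

universe u

namespace SerreCdLib

variable {F : Type u} [Field F]

/-- Adjoining an element to a preordering. -/
theorem exists_gt_or_neg_mem (P : RingPreordering F) (a : F) (ha : a ∉ P) :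
    (∃ Q : RingPreordering F, P < Q) ∨ -a ∈ P := by
  by_cases h : ∃ s ∈ P, ∃ t ∈ P, s + a * t = -1
  · obtain ⟨s, hs, t, ht, e⟩ := h
    right
    have ht0 : t ≠ 0 := fun h0 => RingPreordering.neg_one_notMem P (by rw [h0, mul_zero, add_zero] at e; exact e ▸ hs)
    have h1 : -a = (1 + s) * t⁻¹ := by
      field_simp
      linear_combination -e
    rw [h1]
    exact mul_mem (add_mem (one_mem P) hs) (RingPreordering.inv_mem ht)
  · push Not at h
    left
    refine ⟨RingPreordering.mk' {x | ∃ s ∈ P, ∃ t ∈ P, x = s + a * t} ?_ ?_ ?_ ?_, lt_of_le_of_ne ?_ ?_⟩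
    · rintro x y ⟨s, hs, t, ht, rfl⟩ ⟨s', hs', t', ht', rfl⟩
      exact ⟨s + s', add_mem hs hs', t + t', add_mem ht ht', by ring⟩
    · rintro x y ⟨s, hs, t, ht, rfl⟩ ⟨s', hs', t', ht', rfl⟩
      exact ⟨s * s' + (a * a) * (t * t'), add_mem (mul_mem hs hs') (mul_mem (P.mul_self_mem a) (mul_mem ht ht')),
        s * t' + t * s', add_mem (mul_mem hs ht') (mul_mem ht hs'), by ring⟩
    · exact fun x => ⟨x * x, P.mul_self_mem x, 0, zero_mem P, by rw [mul_zero, add_zero]⟩
    · rintro ⟨s, hs, t, ht, e⟩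
      exact h s hs t ht e.symm
    · intro x hx
      exact RingPreordering.mem_mk'.2 ⟨x, hx, 0, zero_mem P, by rw [mul_zero, add_zero]⟩
    · intro e
      apply ha
      rw [e]
      exact RingPreordering.mem_mk'.2 ⟨0, zero_mem P, 1, one_mem P, by rw [zero_add, mul_one]⟩

/-- The sums of squares, as a preordering. -/
theorem nonempty_preordering (h : ¬ IsSumSq (-1 : F)) : Nonempty (RingPreordering F) :=
  ⟨RingPreordering.mk' {x | IsSumSq x} (fun hx hy => hx.add hy) (fun hx hy => hx.mul hy)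
    (fun x => IsSumSq.mul_self x) h⟩

/-- A preordering that decides every sign. -/
theorem exists_total_preordering (h : ¬ IsSumSq (-1 : F)) :
    ∃ P : RingPreordering F, ∀ a : F, a ∈ P ∨ -a ∈ P := by
  haveI := nonempty_preordering h
  obtain ⟨P, hP⟩ : ∃ P : RingPreordering F, IsMax P := by
    refine zorn_le_nonempty (fun c hc hne => ?_)
    refine ⟨RingPreordering.mk' {x | ∃ Q ∈ c, x ∈ Q} ?_ ?_ ?_ ?_, fun Q hQ x hx => ⟨Q, hQ, hx⟩⟩
    · rintro x y ⟨Q, hQ, hx⟩ ⟨Q', hQ', hy⟩
      rcases hc.total hQ hQ' with hle | hle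
      · exact ⟨Q', hQ', add_mem (hle hx) hy⟩
      · exact ⟨Q, hQ, add_mem hx (hle hy)⟩
    · rintro x y ⟨Q, hQ, hx⟩ ⟨Q', hQ', hy⟩
      rcases hc.total hQ hQ' with hle | hle
      · exact ⟨Q', hQ', mul_mem (hle hx) hy⟩
      · exact ⟨Q, hQ, mul_mem hx (hle hy)⟩
    · exact fun x => ⟨hne.some, hne.some_mem, hne.some.mul_self_mem x⟩
    · rintro ⟨Q, -, hx⟩
      exact RingPreordering.neg_one_notMem Q hx
  refine ⟨P, fun a => ?_⟩
  by_cases ha : a ∈ P
  · exact Or.inl ha
  rcases exists_gt_or_neg_mem P a ha with ⟨Q, hQ⟩ | h'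
  · exact absurd (hP hQ.le) (not_le_of_gt hQ)
  · exact Or.inr h'

/-- Artin–Schreier. -/
theorem exists_ordering (h : ¬ IsSumSq (-1 : F)) :
    ∃ _ : LinearOrder F, IsStrictOrderedRing F := by
  classical
  obtain ⟨P, hP⟩ := exists_total_preordering h
  let C : RingCone F :=
    { P.toSubsemiring with
      eq_zero_of_mem_of_neg_mem' := fun h1 h2 => RingPreordering.eq_zero_of_mem_of_neg_mem h1 h2 }
  haveI : HasMemOrNegMem C := ⟨fun a => hP a⟩
  let L : LinearOrder F := LinearOrder.mkOfAddGroupCone C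
  haveI : IsOrderedRing F := IsOrderedRing.mkOfCone C
  exact ⟨L, IsOrderedRing.toIsStrictOrderedRing F⟩

/-- A field without orderings has `-1` as a sum of `n` squares, for some `n`. -/
theorem exists_sumSq_of_not_orderable (h : ¬ ∃ _ : LinearOrder F, IsStrictOrderedRing F) :
    ∃ l : List F, (l.map fun x => x * x).sum = -1 := by
  have hs : IsSumSq (-1 : F) := by
    by_contra h'
    exact h (exists_ordering h')
  suffices ∀ s : F, IsSumSq s → ∃ l : List F, (l.map fun x => x * x).sum = s from this _ hs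
  intro s hs'
  induction hs' using IsSumSq.rec' with
  | zero => exact ⟨[], rfl⟩
  | sq_add hx hy ih =>
    obtain ⟨l, rfl⟩ := ih
    obtain ⟨b, rfl⟩ := hx
    exact ⟨b :: l, rfl⟩

/-- Overfields of a field in which `-1` is a sum of squares have no ordering. -/
theorem not_orderable_of_algebra {E : Type u} [Field E] (f : F →+* E)
    (h : ¬ ∃ _ : LinearOrder F, IsStrictOrderedRing F) :
    ¬ ∃ _ : LinearOrder E, IsStrictOrderedRing E := by
  rintro ⟨L, hL⟩
  letI := L
  haveI := hL
  have hs : IsSumSq (-1 : F) := by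
    by_contra h'
    exact h (exists_ordering h')
  suffices hE : IsSumSq (f (-1)) by
    rw [map_neg, map_one] at hE
    exact IsSemireal.not_isSumSq_neg_one E hE
  clear h
  revert hs
  generalize (-1 : F) = s
  intro hs
  induction hs using IsSumSq.rec' with
  | zero => rw [map_zero]; exact IsSumSq.zero
  | sq_add hx hy ih =>
    obtain ⟨b, rfl⟩ := hx
    rw [map_add, map_mul]
    exact IsSumSq.sq_add _ ih

end SerreCdLib
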