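import Groth.Agent.CdFieldLib.Killed
import Groth.Agent.EtBrLib.Gm
import Groth.Agent.CdOneLib.Torsion

/-!
# Periodicity of the cohomology above the dimension of a cyclic extension

If a cyclic extension lifts to a cyclic extension whose relative degree is divisible by `l`, the degree two
class of the extension kills the cohomology of sheaves killed by `l`.
-/

set_option autoImplicit false
set_option linter.unusedSectionVars false
set_option linter.style.haveILetI false
set_option backward.isDefEq.respectTransparency false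
set_option backward.isDefEq.respectTransparency.types false
set_option synthInstance.maxHeartbeats 400000
set_option maxHeartbeats 1600000

universe u

open CategoryTheory CategoryTheory.Limits CategoryTheory.Abelian AlgebraicGeometry Opposite
open Groth.Agent.EtShLib EtSliceLib EtTransferLib EtKummerLib EtBrLib

noncomputable section

namespace SerreCdLib

section abstr

universe w v v'

variable {C : Type v'} [Category.{v} C] [Abelian C] [HasExt.{w} C] {A B : C}

/-- The four term sequence cut into two short exact sequences. -/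
theorem exists_shortExact (ep : B ⟶ A) (df : B ⟶ B) (nr : A ⟶ B) [Epi ep] [Mono nr]
    (w₁ : df ≫ ep = 0) (w₂ : nr ≫ df = 0) (h₁ : (ShortComplex.mk df ep w₁).Exact)
    (h₂ : (ShortComplex.mk nr df w₂).Exact) :
    ∃ w : nr ≫ kernel.lift ep df w₁ = 0,
      (ShortComplex.mk (kernel.ι ep) ep (kernel.condition ep)).ShortExact ∧
        (ShortComplex.mk nr (kernel.lift ep df w₁) w).ShortExact := by
  have w : nr ≫ kernel.lift ep df w₁ = 0 := by
    rw [← cancel_mono (kernel.ι ep), Category.assoc, kernel.lift_ι, w₂, zero_comp]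
  haveI : Epi (kernel.lift ep df w₁) := (ShortComplex.exact_iff_epi_kernel_lift _).1 h₁
  exact ⟨w, { exact := ShortComplex.exact_of_f_is_kernel _ (kernelIsKernel _) },
    { exact := by
        refine (ShortComplex.exact_iff_of_epi_of_isIso_of_mono
          (S₁ := ShortComplex.mk nr (kernel.lift ep df w₁) w) (S₂ := ShortComplex.mk nr df w₂)
          { τ₁ := 𝟙 _, τ₂ := 𝟙 _, τ₃ := kernel.ι ep,
            comm₂₃ := (Category.id_comp _).trans (kernel.lift_ι ep df w₁).symm }).2 h₂ }⟩

theorem Ext.mk₀_nsmul_comp {X Y Z : C} (n : ℕ) (f : X ⟶ Y) {q : ℕ} (y : Ext.{w} Y Z q) :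
    (Ext.mk₀ (n • f)).comp y (zero_add q) = n • (Ext.mk₀ f).comp y (zero_add q) := by
  induction n with
  | zero => rw [zero_nsmul, zero_nsmul, Ext.mk₀_zero, Ext.zero_comp]
  | succ n ih => rw [succ_nsmul, succ_nsmul, Ext.mk₀_add, Ext.add_comp, ih]

/-- The morphism of four term sequences kills the periodicity, which is injective. -/
theorem eq_zero_of_periodic {B' : C} (ep : B ⟶ A) (df : B ⟶ B) (nr : A ⟶ B) [Epi ep] [Mono nr]
    (w₁ : df ≫ ep = 0) (w₂ : nr ≫ df = 0) (h₁ : (ShortComplex.mk df ep w₁).Exact)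
    (h₂ : (ShortComplex.mk nr df w₂).Exact)
    (ep' : B' ⟶ A) (df' : B' ⟶ B') (nr' : A ⟶ B') [Epi ep'] [Mono nr']
    (w₁' : df' ≫ ep' = 0) (w₂' : nr' ≫ df' = 0) (h₁' : (ShortComplex.mk df' ep' w₁').Exact)
    (h₂' : (ShortComplex.mk nr' df' w₂').Exact)
    (p : B' ⟶ B) (hp₁ : p ≫ ep = ep') (hp₂ : df' ≫ p = p ≫ df) (n : ℕ) (hp₃ : nr' ≫ p = n • nr)
    {F : C} (hF : ∀ (q : ℕ) (a : Ext.{w} A F q), n • a = 0) {d : ℕ} (hB : ∀ m, d < m → ∀ a : Ext.{w} B F m, a = 0)
    (q : ℕ) (hq : d < q) (y : Ext.{w} A F q) : y = 0 := by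
  obtain ⟨w, hS₁, hS₂⟩ := exists_shortExact ep df nr w₁ w₂ h₁ h₂
  obtain ⟨w', hS₁', hS₂'⟩ := exists_shortExact ep' df' nr' w₁' w₂' h₁' h₂'
  let pk : kernel ep' ⟶ kernel ep := kernel.lift ep (kernel.ι ep' ≫ p) (by
    rw [Category.assoc, hp₁, kernel.condition])
  let f₁ : ShortComplex.mk (kernel.ι ep') ep' (kernel.condition ep') ⟶
      ShortComplex.mk (kernel.ι ep) ep (kernel.condition ep) :=
    { τ₁ := pk, τ₂ := p, τ₃ := 𝟙 A,
      comm₁₂ := kernel.lift_ι _ _ _
      comm₂₃ := hp₁.trans (Category.comp_id _).symm }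
  let f₂ : ShortComplex.mk nr' (kernel.lift ep' df' w₁') w' ⟶ ShortComplex.mk nr (kernel.lift ep df w₁) w :=
    { τ₁ := n • 𝟙 A, τ₂ := p, τ₃ := pk,
      comm₁₂ := by
        show (n • 𝟙 A) ≫ nr = nr' ≫ p
        rw [hp₃, Preadditive.nsmul_comp, Category.id_comp]
      comm₂₃ := by
        show p ≫ kernel.lift ep df w₁ = kernel.lift ep' df' w₁' ≫ pk
        rw [← cancel_mono (kernel.ι ep), Category.assoc, Category.assoc, kernel.lift_ι, kernel.lift_ι,
          ← Category.assoc, kernel.lift_ι, hp₂] }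
  let z : Ext.{w} (kernel ep) F (q + 1) := hS₂.extClass.comp y (add_comm 1 q)
  let e : Ext.{w} A F (q + 2) := hS₁.extClass.comp z (by omega)
  have n₁ : hS₁'.extClass.comp (Ext.mk₀ pk) (add_zero 1) = (Ext.mk₀ (𝟙 A)).comp hS₁.extClass (zero_add 1) :=
    ShortComplex.ShortExact.extClass_naturality hS₁' hS₁ f₁
  have n₂ : hS₂'.extClass.comp (Ext.mk₀ (n • 𝟙 A)) (add_zero 1) = (Ext.mk₀ pk).comp hS₂.extClass (zero_add 1) :=
    ShortComplex.ShortExact.extClass_naturality hS₂' hS₂ f₂
  rw [Ext.mk₀_id_comp] at n₁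
  have hz' : (Ext.mk₀ pk).comp z (zero_add (q + 1)) = 0 := by
    show (Ext.mk₀ pk).comp (hS₂.extClass.comp y _) _ = 0
    rw [← Ext.comp_assoc (Ext.mk₀ pk) hS₂.extClass y (zero_add 1) (add_comm 1 q) (by omega), ← n₂,
      Ext.comp_assoc_of_second_deg_zero]
    have h0 : (Ext.mk₀ (n • 𝟙 A)).comp y (zero_add q) = 0 := by
      rw [Ext.mk₀_nsmul_comp]
      exact hF q _
    rw [h0, Ext.comp_zero]
  have he : e = 0 := by
    show hS₁.extClass.comp z _ = 0
    rw [← n₁, Ext.comp_assoc_of_second_deg_zero, hz', Ext.comp_zero]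
  obtain ⟨a, ha⟩ := Ext.contravariant_sequence_exact₁ hS₁ F z (by omega : 1 + (q + 1) = q + 2) he
  have hz : z = 0 := by rw [← ha, hB (q + 1) (by omega) a, Ext.comp_zero]
  obtain ⟨b, hb⟩ := Ext.contravariant_sequence_exact₁ hS₂ F y (add_comm 1 q) hz
  rw [← hb, hB q hq b, Ext.comp_zero]

end abstr

variable (k : Type u) [Field k]

theorem subsingleton_ext_fieldEt (L : Type u) [Field L] [Algebra k L] [FiniteDimensional k L]
    [Algebra.IsSeparable k L] {l d : ℕ} (h : CdFieldLib.CdK (Spec (CommRingCat.of L)) l d)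
    {F : EtCoh.Ab (Spec (CommRingCat.of k))} (hF : l • 𝟙 F = 0) (m : ℕ) (hm : d < m) :
    Subsingleton (Ext.{u + 1} (free (fieldEt k L)) F m) := by
  let V := fieldEt k L
  let φ : Spec (CommRingCat.of L) ⟶ Spec (CommRingCat.of k) := V.hom
  haveI : AlgebraicGeometry.Etale φ := V.prop
  haveI : (EtCoh.pull φ).Additive := (EtCoh.pullPushAdj φ).left_adjoint_additive
  have hs : Subsingleton (EtCoh.H (Spec (CommRingCat.of L)) ((EtCoh.pull φ).obj F) m) :=
    h _ (by rw [← CategoryTheory.Functor.map_id, ← Functor.map_nsmul, hF, Functor.map_zero]) m hm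
  exact ⟨fun a b => (psi_bijective V m F).1 (hs.elim _ _)⟩

variable (N : Type u) [Field N] [Algebra k N] [FiniteDimensional k N] [IsGalois k N]

/-- The restriction map between the two covers. -/
def projMap (L : IntermediateField k N) : fieldEt k N ⟶ fieldEt k L :=
  MorphismProperty.Over.homMk (Spec.map (CommRingCat.ofHom L.val.toRingHom)) (by
    show Spec.map _ ≫ Spec.map (CommRingCat.ofHom (algebraMap k L)) = Spec.map (CommRingCat.ofHom (algebraMap k N))
    rw [← Spec.map_comp, ← CommRingCat.ofHom_comp]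
    rfl)

theorem autMap_projMap (L : IntermediateField k N) [Normal k L] (g : N ≃ₐ[k] N) :
    autMap k N g ≫ projMap k N L = projMap k N L ≫ autMap k L (AlgEquiv.restrictNormalHom L g) := by
  refine MorphismProperty.Over.Hom.ext ?_
  show Spec.map (CommRingCat.ofHom (g : N →ₐ[k] N).toRingHom) ≫ Spec.map (CommRingCat.ofHom L.val.toRingHom) =
    Spec.map (CommRingCat.ofHom L.val.toRingHom) ≫
      Spec.map (CommRingCat.ofHom (AlgEquiv.restrictNormalHom L g : L →ₐ[k] L).toRingHom)
  rw [← Spec.map_comp, ← Spec.map_comp, ← CommRingCat.ofHom_comp, ← CommRingCat.ofHom_comp]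
  congr 2
  exact RingHom.ext fun x => (AlgEquiv.restrictNormal_commutes g L x).symm

theorem card_fiber_restrict (L : IntermediateField k N) [Normal k L] [Fintype (N ≃ₐ[k] N)]
    [DecidableEq (L ≃ₐ[k] L)] (h : L ≃ₐ[k] L) :
    (Finset.univ.filter fun g : N ≃ₐ[k] N => AlgEquiv.restrictNormalHom L g = h).card = Module.finrank L N := by
  classical
  haveI : IsGalois k L := ⟨⟩
  haveI : Fintype (L ≃ₐ[k] L) := Fintype.ofFinite _
  have hc : ∀ h' : L ≃ₐ[k] L, (Finset.univ.filter fun g : N ≃ₐ[k] N => AlgEquiv.restrictNormalHom L g = h').card =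
      (Finset.univ.filter fun g : N ≃ₐ[k] N => AlgEquiv.restrictNormalHom L g = h).card := fun h' =>
    MonoidHom.card_fiber_eq_of_mem_range (AlgEquiv.restrictNormalHom L (F := k) (K₁ := N))
      (AlgEquiv.restrictNormalHom_surjective N h') (AlgEquiv.restrictNormalHom_surjective N h)
  have e := Finset.card_eq_sum_card_fiberwise (s := (Finset.univ : Finset (N ≃ₐ[k] N)))
    (t := (Finset.univ : Finset (L ≃ₐ[k] L))) (f := AlgEquiv.restrictNormalHom L) (fun _ _ => Finset.mem_univ _)
  rw [Finset.sum_congr rfl fun h' _ => hc h', Finset.sum_const, Finset.card_univ, Finset.card_univ, smul_eq_mul,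
    ← Nat.card_eq_fintype_card, ← Nat.card_eq_fintype_card, IsGalois.card_aut_eq_finrank,
    IsGalois.card_aut_eq_finrank, ← Module.finrank_mul_finrank k L N] at e
  exact (Nat.eq_of_mul_eq_mul_left Module.finrank_pos e).symm

theorem nrm_projMap (L : IntermediateField k N) [Normal k L] [IsGalois k L] :
    nrm k N ≫ freeMap (projMap k N L) = Module.finrank L N • nrm k L := by
  classical
  haveI := epi_eps k N
  haveI : Fintype (N ≃ₐ[k] N) := Fintype.ofFinite _
  haveI : Fintype (L ≃ₐ[k] L) := Fintype.ofFinite _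
  rw [← cancel_epi (eps k N), Preadditive.comp_nsmul, ← Category.assoc, eps_nrm, Preadditive.sum_comp,
    show eps k N = freeMap (projMap k N L) ≫ eps k L from
      (congrArg freeMap ((EtCore.topIsTerminal _).hom_ext _ _)).trans (freeMap_comp _ _).symm,
    Category.assoc, eps_nrm, Preadditive.comp_sum, Finset.smul_sum]
  simp only [freeMap_comp, autMap_projMap]
  rw [← Finset.sum_fiberwise (Finset.univ : Finset (N ≃ₐ[k] N)) (fun g => AlgEquiv.restrictNormalHom L g)]
  refine Finset.sum_congr rfl fun h _ => ?_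
  rw [Finset.sum_congr rfl (g := fun _ => freeMap (projMap k N L ≫ autMap k L h))
    (fun g hg => by rw [(Finset.mem_filter.1 hg).2]), Finset.sum_const, card_fiber_restrict k N L h]

/-- Dimension does not drop along a cyclic extension which lifts. -/
theorem cdK_of_cyclic_lift (hN : IsCyclic (N ≃ₐ[k] N)) (L : IntermediateField k N) {l d : ℕ}
    (hl : l ∣ Module.finrank L N) (h : CdFieldLib.CdK (Spec (CommRingCat.of L)) l d) :
    CdFieldLib.CdK (Spec (CommRingCat.of k)) l d := by
  classical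
  obtain ⟨σ, hσ⟩ := IsCyclic.exists_generator (α := N ≃ₐ[k] N)
  haveI : IsMulCommutative (N ≃ₐ[k] N) := inferInstance
  haveI : IsAbelianGalois k N := ⟨⟩
  haveI : IsGalois k L := inferInstance
  let τ : L ≃ₐ[k] L := AlgEquiv.restrictNormalHom L σ
  have hτ : ∀ g : L ≃ₐ[k] L, g ∈ Subgroup.zpowers τ := fun g => by
    obtain ⟨g', rfl⟩ := AlgEquiv.restrictNormalHom_surjective N (K₁ := L) (F := k) g
    obtain ⟨m, rfl⟩ := Subgroup.mem_zpowers_iff.1 (hσ g')
    exact Subgroup.mem_zpowers_iff.2 ⟨m, (map_zpow _ σ m).symm⟩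
  intro F hF q hq
  refine subsingleton_of_forall_eq 0 fun x => eq_zero_of_top x ?_
  haveI := epi_eps k L
  haveI := mono_nrm k L
  haveI := epi_eps k N
  haveI := mono_nrm k N
  refine eq_zero_of_periodic (eps k L) (dif k L τ) (nrm k L) (dif_eps k L τ) (nrm_dif k L τ)
    (exact_dif_eps k L τ hτ) (exact_nrm_dif k L τ hτ)
    (eps k N) (dif k N σ) (nrm k N) (dif_eps k N σ) (nrm_dif k N σ)
    (exact_dif_eps k N σ hσ) (exact_nrm_dif k N σ hσ) (freeMap (projMap k N L))
    ((freeMap_comp _ _).trans (congrArg freeMap ((EtCore.topIsTerminal _).hom_ext _ _)))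
    ?_ (Module.finrank L N) (nrm_projMap k N L) (F := F) (fun m a => ?_)
    (fun m hm a => (subsingleton_ext_fieldEt k L h hF m hm).elim a 0) q hq _
  · show (freeMap (autMap k N σ) - 𝟙 _) ≫ _ = _ ≫ (freeMap (autMap k L τ) - 𝟙 _)
    rw [Preadditive.sub_comp, Preadditive.comp_sub, Category.id_comp, Category.comp_id, freeMap_comp, freeMap_comp,
      autMap_projMap]
  · obtain ⟨c, hc⟩ := hl
    rw [hc, mul_comm, mul_smul, CdOneLib.nsmul_ext l hF a, smul_zero]

end SerreCdLib
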