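import Groth.Agent.SerreCdLib.Period
import Groth.Agent.SerreCdLib.Ordering
import Groth.Agent.CdFieldLib.Curve
import Mathlib.FieldTheory.Galois.Infinite
import Mathlib.FieldTheory.KummerExtension
import Mathlib.RingTheory.ZMod.UnitsCyclic
import Mathlib.GroupTheory.Sylow
import Mathlib.RingTheory.Polynomial.Cyclotomic.Roots

/-!
# Serre's theorem: the cohomological dimension of a finite extension

For `k'/k` finite separable with `l ≠ 2` or `k` without orderings, `cd_l(k) ≤ cd_l(k')`.
-/

set_option autoImplicit false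
set_option linter.unusedSectionVars false
set_option linter.style.haveILetI false
set_option backward.isDefEq.respectTransparency false
set_option backward.isDefEq.respectTransparency.types false
set_option synthInstance.maxHeartbeats 400000
set_option maxHeartbeats 1600000

universe u

open CategoryTheory CategoryTheory.Limits CategoryTheory.Abelian AlgebraicGeometry Opposite Polynomial
open scoped IntermediateField
open Groth.Agent.EtShLib EtSliceLib EtTransferLib EtKummerLib EtBrLib CdFieldLib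

noncomputable section

namespace SerreCdLib

/-- The cohomological dimension of a field. -/
abbrev CdF (k : Type u) [Field k] (l d : ℕ) : Prop := CdK (Spec (CommRingCat.of k)) l d

theorem cdF_of_algHom {k L L' : Type u} [Field k] [Field L] [Field L'] [Algebra k L] [Algebra k L']
    [FiniteDimensional k L'] (φ : L →ₐ[k] L') {l d : ℕ} (h : CdF L l d) : CdF L' l d := by
  letI : Algebra L L' := φ.toRingHom.toAlgebra
  haveI : IsScalarTower k L L' := IsScalarTower.of_algebraMap_eq fun x => (φ.commutes x).symm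
  haveI : FiniteDimensional L L' := Module.Finite.of_restrictScalars_finite k L L'
  exact cdK_algebraic h

theorem cdF_of_finrank (k L : Type u) [Field k] [Field L] [Algebra k L] [FiniteDimensional k L]
    [Algebra.IsSeparable k L] {l d : ℕ} (hl : l.Prime) (hdeg : ¬ l ∣ Module.finrank k L) (h : CdF L l d) :
    CdF k l d := fun F hF q hq => by
  refine subsingleton_of_forall_eq 0 fun x => ?_
  have h2 := finrank_nsmul k L x ((subsingleton_ext_fieldEt k L h hF q hq).elim _ _)
  have h4 : Nat.gcd l (Module.finrank k L) • x = 0 := gcd_nsmul_eq_zero.2 ⟨CdOneLib.nsmul_ext l hF x, h2⟩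
  rwa [(hl.coprime_iff_not_dvd.2 hdeg).gcd_eq_one, one_nsmul] at h4

variable {k : Type u} [Field k]

theorem finrank_adjoin_le (β : SeparableClosure k) (P : k[X]) (hP : P ≠ 0) (h : aeval β P = 0) :
    Module.finrank k k⟮β⟯ ≤ P.natDegree := by
  rw [IntermediateField.adjoin.finrank (Algebra.IsIntegral.isIntegral β)]
  exact natDegree_le_of_dvd (minpoly.dvd k β h) hP

theorem finiteDimensional_adjoin (β : SeparableClosure k) : FiniteDimensional k k⟮β⟯ :=
  IntermediateField.adjoin.finiteDimensional (Algebra.IsIntegral.isIntegral β)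

theorem isSeparable_intermediate (L : IntermediateField k (SeparableClosure k)) : Algebra.IsSeparable k L :=
  Algebra.isSeparable_tower_bot_of_isSeparable k L (SeparableClosure k)

/-- An automorphism with a long orbit makes a simple extension cyclic. -/
theorem isCyclic_adjoin (β : SeparableClosure k) (g : SeparableClosure k ≃ₐ[k] SeparableClosure k) {n : ℕ}
    (hdeg : Module.finrank k k⟮β⟯ ≤ n) (hg : g β ∈ k⟮β⟯)
    (hord : ∀ j, 0 < j → j < n → (g ^ j) β ≠ β) :
    IsGalois k k⟮β⟯ ∧ IsCyclic (k⟮β⟯ ≃ₐ[k] k⟮β⟯) ∧ Module.finrank k k⟮β⟯ = n := by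
  haveI := finiteDimensional_adjoin β
  have hmap : ∀ x : k⟮β⟯, g x ∈ k⟮β⟯ := fun x => by
    have h1 : k⟮β⟯.map (g : SeparableClosure k →ₐ[k] SeparableClosure k) ≤ k⟮β⟯ := by
      rw [IntermediateField.adjoin_map, Set.image_singleton, IntermediateField.adjoin_simple_le_iff]
      exact hg
    exact h1 ⟨x, x.2, rfl⟩
  let g₀ : k⟮β⟯ →ₐ[k] k⟮β⟯ :=
    ((g : SeparableClosure k →ₐ[k] SeparableClosure k).comp k⟮β⟯.val).codRestrict k⟮β⟯.toSubalgebra hmap
  let g₁ : k⟮β⟯ ≃ₐ[k] k⟮β⟯ := AlgEquiv.ofBijective g₀ g₀.bijective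
  have hpow : ∀ (j : ℕ) (x : k⟮β⟯), ((g₁ ^ j) x : SeparableClosure k) = (g ^ j) (x : SeparableClosure k) := by
    intro j
    induction j with
    | zero => exact fun x => rfl
    | succ j ih =>
      intro x
      rw [pow_succ', pow_succ', AlgEquiv.mul_apply, AlgEquiv.mul_apply, ← ih]
      rfl
  have h0 : n ≤ orderOf g₁ := by
    by_contra hlt
    refine hord (orderOf g₁) (orderOf_pos g₁) (not_le.1 hlt) ?_
    have := hpow (orderOf g₁) ⟨β, IntermediateField.mem_adjoin_simple_self k β⟩
    rw [pow_orderOf_eq_one] at this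
    exact this.symm
  have h1 : orderOf g₁ ≤ Nat.card (k⟮β⟯ ≃ₐ[k] k⟮β⟯) := orderOf_le_card
  have h2 : Nat.card (k⟮β⟯ ≃ₐ[k] k⟮β⟯) ≤ Module.finrank k k⟮β⟯ := by
    rw [Nat.card_eq_fintype_card]
    exact AlgEquiv.card_le
  refine ⟨IsGalois.of_card_aut_eq_finrank k _ (by omega), ?_, by omega⟩
  exact isCyclic_of_orderOf_eq_card g₁ (by omega)

/-- The step from a lift of degree `l ^ 2`. -/
theorem cdF_of_lift {l d : ℕ} (hl : l.Prime) (β : SeparableClosure k)
    (g : SeparableClosure k ≃ₐ[k] SeparableClosure k) (hdeg : Module.finrank k k⟮β⟯ ≤ l ^ 2)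
    (hg : g β ∈ k⟮β⟯) (hord : ∀ j, 0 < j → j < l ^ 2 → (g ^ j) β ≠ β)
    (L : IntermediateField k (SeparableClosure k)) (hLN : L ≤ k⟮β⟯) (hL : Module.finrank k L ≤ l)
    (h : CdF L l d) : CdF k l d := by
  obtain ⟨hG, hC, hn⟩ := isCyclic_adjoin β g hdeg hg hord
  haveI := hG
  haveI := finiteDimensional_adjoin β
  let L' : IntermediateField k k⟮β⟯ := IntermediateField.restrict hLN
  let e : L ≃ₐ[k] L' := IntermediateField.restrict_algEquiv hLN
  refine cdK_of_cyclic_lift k k⟮β⟯ hC L' ?_ (cdF_of_algHom e.toAlgHom h)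
  have hmul := Module.finrank_mul_finrank k L' k⟮β⟯
  rw [hn, ← e.toLinearEquiv.finrank_eq] at hmul
  obtain ⟨i, hi, hi'⟩ := (Nat.dvd_prime_pow hl).1 ⟨_, hmul.symm.trans (mul_comm _ _)⟩
  rcases i with _ | i
  · exfalso
    rw [hi', pow_zero, mul_one] at hmul
    have : l < l ^ 2 := by
      calc l = l ^ 1 := (pow_one l).symm
        _ < l ^ 2 := Nat.pow_lt_pow_right hl.one_lt (by norm_num)
    omega
  · rw [hi', pow_succ]
    exact dvd_mul_left _ _

/-- Composita. -/
theorem exists_compositum (k' : Type u) [Field k'] [Algebra k k'] [FiniteDimensional k k']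
    [Algebra.IsSeparable k k'] (L : IntermediateField k (SeparableClosure k)) [FiniteDimensional k L] {l d : ℕ}
    (h : CdF k' l d) :
    ∃ (K : Type u) (_ : Field K) (_ : Algebra L K) (_ : FiniteDimensional L K) (_ : Algebra.IsSeparable L K),
      CdF K l d := by
  let φ : k' →ₐ[k] SeparableClosure k := IsSepClosed.lift
  haveI : FiniteDimensional k φ.fieldRange := (AlgEquiv.ofInjectiveField φ).toLinearEquiv.finiteDimensional
  let K : IntermediateField k (SeparableClosure k) := φ.fieldRange ⊔ L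
  haveI : Algebra.IsSeparable k K := isSeparable_intermediate K
  letI : Algebra L K := (IntermediateField.inclusion (le_sup_right : L ≤ K)).toRingHom.toAlgebra
  haveI : IsScalarTower k L K := IsScalarTower.of_algebraMap_eq fun x => rfl
  refine ⟨K, inferInstance, inferInstance, Module.Finite.of_restrictScalars_finite k L K,
    Algebra.isSeparable_tower_top_of_isSeparable k L K, ?_⟩
  exact cdF_of_algHom ((IntermediateField.inclusion (le_sup_left : φ.fieldRange ≤ K)).comp φ.rangeRestrict) h

theorem exists_move (x : SeparableClosure k) (hx : x ∉ Set.range (algebraMap k (SeparableClosure k))) :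
    ∃ g : SeparableClosure k ≃ₐ[k] SeparableClosure k, g x ≠ x := by
  by_contra h
  push Not at h
  exact hx ((InfiniteGalois.mem_range_algebraMap_iff_fixed x).2 h)

theorem exists_root {n : ℕ} (hn : (n : k) ≠ 0) (x : SeparableClosure k) : ∃ z, z ^ n = x :=
  haveI : NeZero (n : SeparableClosure k) := ⟨by
    rw [← map_natCast (algebraMap k (SeparableClosure k))]
    exact (_root_.map_ne_zero _).2 hn⟩
  IsSepClosed.exists_pow_nat_eq x n

/-- The Kummer lift. -/
theorem cdF_kummer {l d : ℕ} (hl : l.Prime) (hlk : (l : k) ≠ 0) (hroot : ∃ ζ : k, IsPrimitiveRoot ζ (l ^ 2))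
    (M : Type u) [Field M] [Algebra k M] [FiniteDimensional k M] [IsGalois k M]
    (hM : Module.finrank k M = l) (h : CdF M l d) : CdF k l d := by
  haveI := Fact.mk hl
  obtain ⟨ζ, hζ⟩ := hroot
  haveI : IsCyclic (M ≃ₐ[k] M) := isCyclic_of_prime_card (p := l) (by rw [IsGalois.card_aut_eq_finrank, hM])
  obtain ⟨α, ⟨a, ha⟩, hα⟩ := exists_root_adjoin_eq_top_of_isCyclic k M
    ⟨ζ ^ l, (mem_primitiveRoots Module.finrank_pos).2 (by rw [hM]; exact hζ.pow (pow_pos hl.pos 2) (sq l))⟩
  let φ : M →ₐ[k] SeparableClosure k := IsSepClosed.lift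
  have hr : φ.fieldRange = k⟮φ α⟯ := by
    rw [AlgHom.fieldRange_eq_map, ← hα, IntermediateField.adjoin_map, Set.image_singleton]
  have hfr : Module.finrank k k⟮φ α⟯ = l := by
    rw [← hr, ← (show M ≃ₐ[k] φ.fieldRange from AlgEquiv.ofInjectiveField φ).toLinearEquiv.finrank_eq, hM]
  have hne : φ α ∉ Set.range (algebraMap k (SeparableClosure k)) := fun hmem => by
    rw [IntermediateField.adjoin_simple_eq_bot_iff.2 (IntermediateField.mem_bot.2 hmem),
      IntermediateField.finrank_bot] at hfr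
    exact hl.ne_one hfr.symm
  obtain ⟨g, hg⟩ := exists_move _ hne
  obtain ⟨β, hβ⟩ := exists_root hlk (φ α)
  have hβ2 : β ^ (l ^ 2) = algebraMap k _ a := by
    rw [sq, pow_mul, hβ, ← map_pow, ← hM, ← ha, φ.commutes]
  have ha0 : a ≠ 0 := fun h0 => hne ⟨0, by
    have : (φ α) ^ Module.finrank k M = 0 := by rw [← map_pow, ← ha, φ.commutes, h0, map_zero]
    rw [map_zero, eq_zero_of_pow_eq_zero this]⟩
  have hβ0 : β ≠ 0 := fun h0 => by
    rw [h0, zero_pow (pow_ne_zero _ hl.ne_zero)] at hβ2
    exact ha0 ((algebraMap k _).injective (hβ2.symm.trans (map_zero _).symm))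
  have hζ' := hζ.map_of_injective (algebraMap k (SeparableClosure k)).injective
  haveI : NeZero (l ^ 2) := ⟨pow_ne_zero _ hl.ne_zero⟩
  obtain ⟨i, -, hi⟩ := hζ'.eq_pow_of_pow_eq_one (ξ := g β / β) (by
    rw [div_pow, ← map_pow, hβ2, g.commutes, div_self ((_root_.map_ne_zero _).2 ha0)])
  have hgβ : g β = algebraMap k _ (ζ ^ i) * β := by
    rw [map_pow, hi, div_mul_cancel₀ _ hβ0]
  have hgj : ∀ j : ℕ, (g ^ j) β = algebraMap k _ (ζ ^ (i * j)) * β := by
    intro j
    induction j with
    | zero => simp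
    | succ j ih =>
      rw [pow_succ', AlgEquiv.mul_apply, ih, map_mul, g.commutes, hgβ, ← mul_assoc, ← map_mul, ← pow_add,
        mul_add, mul_one]
  have hil : ¬ l ∣ i := by
    rintro ⟨c, rfl⟩
    apply hg
    rw [← hβ, map_pow, hgβ, mul_pow, ← map_pow, ← pow_mul, show l * c * l = l ^ 2 * c by ring, pow_mul,
      hζ.pow_eq_one, one_pow, map_one, one_mul]
  refine cdF_of_lift hl β g ?_ ?_ ?_ k⟮φ α⟯ ?_ hfr.le ?_
  · refine (finrank_adjoin_le β (X ^ (l ^ 2) - C a) (X_pow_sub_C_ne_zero (pow_pos hl.pos 2) a) ?_).trans_eq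
      natDegree_X_pow_sub_C
    simp [hβ2]
  · rw [hgβ]
    exact mul_mem (IntermediateField.algebraMap_mem _ _) (IntermediateField.mem_adjoin_simple_self k β)
  · intro j hj hj' e
    rw [hgj] at e
    have e1 : ζ ^ (i * j) = 1 := (algebraMap k (SeparableClosure k)).injective
      (by rw [map_one]; exact (mul_eq_right₀ hβ0).1 e)
    have h2 := ((hl.coprime_iff_not_dvd.2 hil).pow_left 2).dvd_of_dvd_mul_left (hζ.dvd_of_pow_eq_one _ e1)
    exact absurd (Nat.le_of_dvd hj h2) (not_le.2 hj')
  · rw [IntermediateField.adjoin_simple_le_iff, ← hβ]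
    exact pow_mem (IntermediateField.mem_adjoin_simple_self k β) l
  · haveI := finiteDimensional_adjoin (φ α)
    exact cdF_of_algHom ((IntermediateField.inclusion hr.le).comp φ.rangeRestrict) h

/-- Fields with the roots of unity of order `l ^ 2`. -/
theorem cdF_descend_galois {l d : ℕ} (hl : l.Prime) : ∀ (n : ℕ) (k : Type u) [Field k] (N : Type u) [Field N]
    [Algebra k N] [FiniteDimensional k N] [IsGalois k N], Module.finrank k N = n → (l : k) ≠ 0 →
    (∃ ζ : k, IsPrimitiveRoot ζ (l ^ 2)) → CdF N l d → CdF k l d := by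
  intro n
  induction n using Nat.strong_induction_on with
  | _ n ih =>
  intro k _ N _ _ _ _ hn hlk hroot h
  haveI := Fact.mk hl
  classical
  by_cases hdvd : l ∣ Module.finrank k N
  swap
  · exact cdF_of_finrank k N hl hdvd h
  have hcard : Nat.card (N ≃ₐ[k] N) = n := by rw [IsGalois.card_aut_eq_finrank, hn]
  have hL : ∀ L : IntermediateField k N, (l : L) ≠ 0 ∧ ∃ ζ : L, IsPrimitiveRoot ζ (l ^ 2) := fun L => by
    obtain ⟨ζ, hζ⟩ := hroot
    exact ⟨by rw [← map_natCast (algebraMap k L)]; exact (_root_.map_ne_zero _).2 hlk,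
      _, hζ.map_of_injective (algebraMap k L).injective⟩
  by_cases hp : IsPGroup l (N ≃ₐ[k] N)
  · haveI : Nontrivial (N ≃ₐ[k] N) := Finite.one_lt_card_iff_nontrivial.1 (by
      rw [hcard, ← hn]
      exact hl.one_lt.trans_le (Nat.le_of_dvd Module.finrank_pos hdvd))
    haveI := hp.center_nontrivial
    obtain ⟨j, hj⟩ := IsPGroup.iff_card.1 (hp.to_subgroup (Subgroup.center (N ≃ₐ[k] N)))
    have hj1 : l ∣ Nat.card (Subgroup.center (N ≃ₐ[k] N)) := by
      rcases j with _ | j
      · rw [pow_zero] at hj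
        exact absurd hj (ne_of_gt (Finite.one_lt_card_iff_nontrivial.2 inferInstance))
      · rw [hj, pow_succ]; exact dvd_mul_left _ _
    obtain ⟨⟨τ, hτc⟩, hτ⟩ := exists_prime_orderOf_dvd_card' l hj1
    rw [← Subgroup.orderOf_coe] at hτ
    let H := Subgroup.zpowers τ
    haveI hHn : H.Normal := ⟨fun x hx g => by
      obtain ⟨m, rfl⟩ := Subgroup.mem_zpowers_iff.1 hx
      rw [(Subgroup.mem_center_iff.1 (Subgroup.zpow_mem _ hτc m)) g, mul_assoc, mul_inv_cancel, mul_one]
      exact Subgroup.zpow_mem _ (Subgroup.mem_zpowers τ) m⟩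
    let L := IntermediateField.fixedField H
    haveI : IsGalois k L := IsGalois.of_fixedField_normal_subgroup H
    have hLN : Module.finrank L N = l := by
      rw [IntermediateField.finrank_fixedField_eq_card, Nat.card_zpowers]
      exact hτ
    have hmul := Module.finrank_mul_finrank k L N
    rw [hLN, hn] at hmul
    refine ih (Module.finrank k L) ?_ k L rfl hlk hroot (cdF_kummer hl (hL L).1 (hL L).2 N hLN h)
    rw [← hmul]
    exact lt_mul_of_one_lt_right Module.finrank_pos hl.one_lt
  · obtain ⟨P⟩ : Nonempty (Sylow l (N ≃ₐ[k] N)) := inferInstance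
    let L := IntermediateField.fixedField (P : Subgroup (N ≃ₐ[k] N))
    have hLN : Module.finrank L N = Nat.card (P : Subgroup (N ≃ₐ[k] N)) :=
      IntermediateField.finrank_fixedField_eq_card _
    have hidx := (P : Subgroup (N ≃ₐ[k] N)).card_mul_index
    have hmul := Module.finrank_mul_finrank k L N
    rw [hLN, hn] at hmul
    rw [hcard] at hidx
    have hkL : Module.finrank k L = (P : Subgroup (N ≃ₐ[k] N)).index :=
      Nat.eq_of_mul_eq_mul_left Nat.card_pos ((mul_comm _ _).trans (hmul.trans hidx.symm))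
    have hlt : Module.finrank L N < n := by
      rw [hLN, ← hidx]
      refine lt_mul_of_one_lt_right Nat.card_pos (Nat.one_lt_iff_ne_zero_and_ne_one.2 ⟨?_, fun h1 => hp ?_⟩)
      · exact Subgroup.index_ne_zero_of_finite
      · have hP := P.isPGroup'
        rw [Subgroup.index_eq_one.1 h1] at hP
        exact hP.of_equiv Subgroup.topEquiv
    exact cdF_of_finrank k L hl (hkL ▸ P.not_dvd_index) (ih _ hlt L N rfl (hL L).1 (hL L).2 h)

/-- Descent along separable extensions, with roots of unity of order `l ^ 2`. -/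
theorem cdF_descend_root {l d : ℕ} (hl : l.Prime) (hlk : (l : k) ≠ 0)
    (hroot : ∃ ζ : k, IsPrimitiveRoot ζ (l ^ 2)) (k' : Type u) [Field k'] [Algebra k k']
    [FiniteDimensional k k'] [Algebra.IsSeparable k k'] (h : CdF k' l d) : CdF k l d := by
  let φ : k' →ₐ[k] SeparableClosure k := IsSepClosed.lift
  let N := IntermediateField.normalClosure k k' (SeparableClosure k)
  haveI : IsGalois k N := IsGalois.normalClosure k k' (SeparableClosure k)
  exact cdF_descend_galois hl _ k N rfl hlk hroot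
    (cdF_of_algHom ((IntermediateField.inclusion φ.fieldRange_le_normalClosure).comp φ.rangeRestrict) h)

/-- Odd primes, with roots of unity of order `l`. -/
theorem cdF_descend_root_prime {l d : ℕ} (hl : l.Prime) (hl2 : l ≠ 2) (hlk : (l : k) ≠ 0)
    (hroot : ∃ ζ : k, IsPrimitiveRoot ζ l) (k' : Type u) [Field k'] [Algebra k k']
    [FiniteDimensional k k'] [Algebra.IsSeparable k k'] (h : CdF k' l d) : CdF k l d := by
  haveI := Fact.mk hl
  obtain ⟨ζ, hζ⟩ := hroot
  have hζ' := hζ.map_of_injective (algebraMap k (SeparableClosure k)).injective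
  obtain ⟨z, hz⟩ := exists_root hlk (algebraMap k (SeparableClosure k) ζ)
  obtain ⟨β, hβ⟩ := exists_root hlk z
  have hz2 : IsPrimitiveRoot z (l ^ 2) := by
    rw [IsPrimitiveRoot.iff_orderOf]
    refine orderOf_eq_prime_pow ?_ ?_
    · rw [pow_one, hz]; exact hζ'.ne_one hl.one_lt
    · rw [sq, pow_mul, hz]; exact hζ'.pow_eq_one
  have hβ3 : IsPrimitiveRoot β (l ^ 3) := by
    rw [IsPrimitiveRoot.iff_orderOf]
    refine orderOf_eq_prime_pow ?_ ?_
    · rw [sq, pow_mul, hβ, hz]; exact hζ'.ne_one hl.one_lt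
    · rw [show l ^ 3 = l * l ^ 2 by ring, pow_mul, hβ]; exact hz2.pow_eq_one
  by_cases hmem : z ∈ Set.range (algebraMap k (SeparableClosure k))
  · obtain ⟨c, hc⟩ := hmem
    exact cdF_descend_root hl hlk
      ⟨c, IsPrimitiveRoot.of_map_of_injective (f := algebraMap k (SeparableClosure k)) (by rw [hc]; exact hz2)
        (algebraMap k _).injective⟩ k' h
  obtain ⟨g, hg⟩ := exists_move z hmem
  haveI : NeZero (l ^ 3) := ⟨pow_ne_zero _ hl.ne_zero⟩
  obtain ⟨m, -, hm⟩ := hβ3.eq_pow_of_pow_eq_one (ξ := g β) (by rw [← map_pow, hβ3.pow_eq_one, map_one])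
  have hgz : g z = z ^ m := calc
    g z = g (β ^ l) := by rw [hβ]
    _ = (β ^ m) ^ l := by rw [map_pow, ← hm]
    _ = z ^ m := by rw [← pow_mul, mul_comm, pow_mul, hβ]
  have hgj : ∀ j : ℕ, (g ^ j) β = β ^ (m ^ j) := by
    intro j
    induction j with
    | zero => rw [pow_zero, pow_zero, pow_one]; rfl
    | succ j ih =>
      rw [pow_succ', AlgEquiv.mul_apply, ih, map_pow, ← hm, ← pow_mul, ← pow_succ']
  have hm1 : (l : ℤ) ∣ (m : ℤ) - 1 := by
    have e : algebraMap k (SeparableClosure k) ζ ^ m = algebraMap k (SeparableClosure k) ζ ^ 1 := by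
      calc algebraMap k (SeparableClosure k) ζ ^ m = (z ^ m) ^ l := by
            rw [← hz, ← pow_mul, ← pow_mul, mul_comm]
        _ = g (algebraMap k (SeparableClosure k) ζ) := by rw [← hz, map_pow, hgz]
        _ = algebraMap k (SeparableClosure k) ζ ^ 1 := by rw [pow_one]; exact g.commutes ζ
    rw [(hζ'.isOfFinOrder hl.ne_zero).pow_eq_pow_iff_modEq, ← hζ'.eq_orderOf] at e
    exact (Int.natCast_modEq_iff.2 e).symm.dvd
  obtain ⟨t, ht⟩ := hm1
  have htl : ¬ (l : ℤ) ∣ t := by
    rintro ⟨c, rfl⟩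
    apply hg
    rw [hgz]
    conv_rhs => rw [← pow_one z]
    rw [(hz2.isOfFinOrder (pow_ne_zero _ hl.ne_zero)).pow_eq_pow_iff_modEq, ← hz2.eq_orderOf]
    refine Int.natCast_modEq_iff.1 (Int.modEq_iff_dvd.2 ⟨-c, ?_⟩)
    push_cast
    linear_combination -ht
  let k₂ : IntermediateField k (SeparableClosure k) := k⟮z⟯
  haveI : FiniteDimensional k k₂ := finiteDimensional_adjoin z
  obtain ⟨K, _, _, _, _, hK⟩ := exists_compositum k' k₂ h
  have hlk₂ : (l : k₂) ≠ 0 := by rw [← map_natCast (algebraMap k k₂)]; exact (_root_.map_ne_zero _).2 hlk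
  have hr₂ : IsPrimitiveRoot (⟨z, IntermediateField.mem_adjoin_simple_self k z⟩ : k₂) (l ^ 2) :=
    IsPrimitiveRoot.of_map_of_injective (f := k₂.val) hz2 Subtype.val_injective
  refine cdF_of_lift hl β g ?_ ?_ ?_ k₂ ?_ ?_ (cdF_descend_root hl hlk₂ ⟨_, hr₂⟩ K hK)
  · refine (finrank_adjoin_le β (X ^ (l ^ 2) - C ζ) (X_pow_sub_C_ne_zero (pow_pos hl.pos 2) ζ) ?_).trans_eq
      natDegree_X_pow_sub_C
    simp [sq l, pow_mul, hβ, hz]
  · rw [← hm]
    exact pow_mem (IntermediateField.mem_adjoin_simple_self k β) m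
  · intro j hj hj' e
    rw [hgj] at e
    conv_rhs at e => rw [← pow_one β]
    rw [(hβ3.isOfFinOrder (pow_ne_zero _ hl.ne_zero)).pow_eq_pow_iff_modEq, ← hβ3.eq_orderOf, ← ZMod.natCast_eq_natCast_iff] at e
    have hm' : (m : ZMod (l ^ 3)) = 1 + (l : ZMod (l ^ 3)) * (t : ZMod (l ^ 3)) := by
      have := congrArg (fun y : ℤ => (y : ZMod (l ^ 3))) ht
      push_cast at this
      linear_combination this
    push_cast at e
    rw [hm'] at e
    have h3 := orderOf_dvd_of_pow_eq_one e
    rw [ZMod.orderOf_one_add_mul_prime hl hl2 t htl 2] at h3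
    exact absurd (Nat.le_of_dvd hj h3) (not_le.2 hj')
  · rw [IntermediateField.adjoin_simple_le_iff, ← hβ]
    exact pow_mem (IntermediateField.mem_adjoin_simple_self k β) l
  · refine (finrank_adjoin_le z (X ^ l - C ζ) (X_pow_sub_C_ne_zero hl.pos ζ) ?_).trans_eq natDegree_X_pow_sub_C
    simp [hz]

/-- Odd primes. -/
theorem cdF_descend_odd {l d : ℕ} (hl : l.Prime) (hl2 : l ≠ 2) (hlk : (l : k) ≠ 0) (k' : Type u) [Field k']
    [Algebra k k'] [FiniteDimensional k k'] [Algebra.IsSeparable k k'] (h : CdF k' l d) : CdF k l d := by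
  haveI : NeZero (l : k) := ⟨hlk⟩
  haveI : NeZero (l : SeparableClosure k) := ⟨by rw [← map_natCast (algebraMap k (SeparableClosure k))]; exact (_root_.map_ne_zero _).2 hlk⟩
  obtain ⟨z, hz⟩ := IsSepClosed.exists_root (cyclotomic l (SeparableClosure k))
    (degree_cyclotomic_pos l _ hl.pos).ne' (separable_cyclotomic l _)
  rw [isRoot_cyclotomic_iff] at hz
  let k₁ : IntermediateField k (SeparableClosure k) := k⟮z⟯
  haveI : FiniteDimensional k k₁ := finiteDimensional_adjoin z
  haveI := isSeparable_intermediate k₁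
  have hdeg : Module.finrank k k₁ < l := by
    refine (finrank_adjoin_le z (cyclotomic l k) (cyclotomic_ne_zero l k) ?_).trans_lt ?_
    · rw [aeval_def, ← Polynomial.eval_map, map_cyclotomic]
      exact isRoot_cyclotomic_iff.2 hz
    · rw [natDegree_cyclotomic, Nat.totient_prime hl]
      exact Nat.sub_lt hl.pos one_pos
  obtain ⟨K, _, _, _, _, hK⟩ := exists_compositum k' k₁ h
  refine cdF_of_finrank k k₁ hl (fun hd => absurd (Nat.le_of_dvd Module.finrank_pos hd) (not_le.2 hdeg)) ?_
  exact cdF_descend_root_prime hl hl2 (by rw [← map_natCast (algebraMap k k₁)]; exact (_root_.map_ne_zero _).2 hlk)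
    ⟨⟨z, IntermediateField.mem_adjoin_simple_self k z⟩,
      IsPrimitiveRoot.of_map_of_injective (f := k₁.val) hz Subtype.val_injective⟩ K hK

/-- The prime two: induction on the number of squares. -/
theorem cdF_descend_two {d : ℕ} : ∀ (n : ℕ) (k : Type u) [Field k], ((2 : ℕ) : k) ≠ 0 → ∀ x : List k,
    x.length ≤ n → (x.map fun y => y * y).sum = -1 → ∀ (k' : Type u) [Field k'] [Algebra k k']
    [FiniteDimensional k k'] [Algebra.IsSeparable k k'], CdF k' 2 d → CdF k 2 d := by
  intro n
  induction n with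
  | zero =>
    intro k _ _ x hx hsum
    rw [List.length_eq_zero_iff.1 (Nat.le_zero.1 hx)] at hsum
    simp at hsum
  | succ n ih =>
    intro k _ h2 x hx hsum k' _ _ _ _ h
    have h2' : (2 : k) ≠ 0 := by simpa using h2
    rcases x with _ | ⟨a, _ | ⟨b, rest⟩⟩
    · simp at hsum
    · have ha : a * a = -1 := by simpa using hsum
      haveI := Fact.mk Nat.prime_two
      refine cdF_descend_root Nat.prime_two h2 ⟨a, ?_⟩ k' h
      rw [IsPrimitiveRoot.iff_orderOf]
      refine orderOf_eq_prime_pow ?_ ?_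
      · rw [pow_one, sq, ha]
        intro e
        exact h2' (by linear_combination -e)
      · rw [show (2 : ℕ) ^ (1 + 1) = 2 * 2 from rfl, pow_mul, sq a, ha]
        simp
    simp only [List.map_cons, List.sum_cons] at hsum
    simp only [List.length_cons] at hx
    by_cases hs : ∃ c : k, a * a + b * b = c * c
    · obtain ⟨c, hc⟩ := hs
      refine ih k h2 (c :: rest) (by simp only [List.length_cons]; omega) ?_ k' h
      simp only [List.map_cons, List.sum_cons]
      linear_combination hsum - hc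
    push Not at hs
    set s := a * a + b * b with hsdef
    have ha0 : a ≠ 0 := fun h0 => hs b (by rw [hsdef, h0]; ring)
    have hb0 : b ≠ 0 := fun h0 => hs a (by rw [hsdef, h0]; ring)
    have hs0 : s ≠ 0 := fun h0 => hs 0 (by rw [h0, mul_zero])
    let Ω := SeparableClosure k
    let ι := algebraMap k Ω
    have h2Ω : (2 : Ω) ≠ 0 := by
      rw [← map_ofNat ι 2]
      exact (_root_.map_ne_zero ι).2 h2'
    obtain ⟨w, hw⟩ := exists_root h2 (ι s)
    have hwk : w ∉ Set.range ι := by
      rintro ⟨c, rfl⟩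
      exact hs c (ι.injective (by rw [map_mul, ← sq, hw]))
    obtain ⟨g, hg⟩ := exists_move w hwk
    have hgw : g w = -w := by
      have : g w ^ 2 = w ^ 2 := by rw [← map_pow, hw]; exact g.commutes s
      exact (sq_eq_sq_iff_eq_or_eq_neg.1 this).resolve_left hg
    have hw0 : w ≠ 0 := fun h0 => hwk ⟨0, by rw [map_zero, h0]⟩
    obtain ⟨β, hβ⟩ := exists_root h2 (ι s + ι a * w)
    have hsab : ι s = ι a * ι a + ι b * ι b := by rw [← map_mul, ← map_mul, ← map_add]
    have huu : (ι s + ι a * w) * (ι s - ι a * w) = ι s * (ι b * ι b) := by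
      linear_combination (-(ι a * ι a)) * hw + (ι s) * hsab
    have hβ0 : β ≠ 0 := fun h0 => by
      rw [h0, zero_pow two_ne_zero] at hβ
      rw [← hβ, zero_mul] at huu
      simp [ι, hs0, hb0] at huu
    have hgu : g β ^ 2 = ι s - ι a * w := by
      rw [← map_pow, hβ, map_add, map_mul, g.commutes, g.commutes, hgw]
      ring
    have hgβ : g β = ι b * w / β ∨ g β = -(ι b * w / β) := by
      refine sq_eq_sq_iff_eq_or_eq_neg.1 ?_
      rw [hgu, div_pow, eq_div_iff (pow_ne_zero 2 hβ0), hβ, mul_pow, hw, mul_comm, huu]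
      ring
    have hgb : g (ι b * w / β) = -(ι b * w / g β) := by
      rw [map_div₀, map_mul, g.commutes, hgw, mul_neg, neg_div]
    have hg2 : g (g β) = -β := by
      have hbw : ι b * w ≠ 0 := mul_ne_zero ((_root_.map_ne_zero ι).2 hb0) hw0
      rcases hgβ with e | e
      · conv_lhs => rw [e]
        rw [hgb, e, div_div_cancel₀ hbw]
      · conv_lhs => rw [e]
        rw [map_neg, hgb, e, div_neg, neg_neg, div_div_cancel₀ hbw]
    have hne : ∀ γ : Ω, γ ^ 2 = β ^ 2 → g β ≠ γ := by
      intro γ hγ e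
      rw [← e, hgu, hβ] at hγ
      have h0 : (2 : Ω) * (ι a * w) = 0 := by linear_combination -hγ
      simp [h2Ω, ι, ha0, hw0] at h0
    have hord : ∀ j, 0 < j → j < 2 ^ 2 → (g ^ j) β ≠ β := by
      intro j hj hj'
      have h4 : j = 1 ∨ j = 2 ∨ j = 3 := by omega
      rcases h4 with rfl | rfl | rfl
      · exact hne β rfl
      · intro e
        have : -β = β := hg2.symm.trans e
        have h0 : (2 : Ω) * β = 0 := by linear_combination -this
        simp [h2Ω, hβ0] at h0
      · intro e
        have h3 : g (g (g β)) = β := e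
        rw [hg2, map_neg] at h3
        exact hne (-β) (neg_sq β) (neg_eq_iff_eq_neg.1 h3)
    have hwN : w ∈ k⟮β⟯ := by
      have : w = (β ^ 2 - ι s) / ι a := by
        rw [hβ, add_sub_cancel_left, mul_div_cancel_left₀ _ ((_root_.map_ne_zero ι).2 ha0)]
      rw [this]
      exact div_mem (sub_mem (pow_mem (IntermediateField.mem_adjoin_simple_self k β) 2)
        (IntermediateField.algebraMap_mem _ _)) (IntermediateField.algebraMap_mem _ _)
    have hgN : g β ∈ k⟮β⟯ := by
      have : ι b * w / β ∈ k⟮β⟯ := div_mem (mul_mem (IntermediateField.algebraMap_mem _ _) hwN)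
        (IntermediateField.mem_adjoin_simple_self k β)
      rcases hgβ with e | e <;> rw [e]
      exacts [this, neg_mem this]
    let k₁ : IntermediateField k Ω := k⟮w⟯
    haveI : FiniteDimensional k k₁ := finiteDimensional_adjoin w
    obtain ⟨K, _, _, _, _, hK⟩ := exists_compositum k' k₁ h
    have hk₁2 : ((2 : ℕ) : k₁) ≠ 0 := by
      rw [← map_natCast (algebraMap k k₁)]; exact (_root_.map_ne_zero _).2 h2
    let w₁ : k₁ := ⟨w, IntermediateField.mem_adjoin_simple_self k w⟩
    have hK' : CdF k₁ 2 d := by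
      refine ih k₁ hk₁2 (w₁ :: rest.map (algebraMap k k₁)) (by simp only [List.length_cons, List.length_map]; omega) ?_ K hK
      simp only [List.map_cons, List.sum_cons, List.map_map]
      have hw₁ : w₁ * w₁ = algebraMap k k₁ s := Subtype.ext (by show w * w = ι s; rw [← sq, hw])
      have hrest : (rest.map ((fun y : k₁ => y * y) ∘ algebraMap k k₁)).sum =
          algebraMap k k₁ (rest.map fun y => y * y).sum := by
        rw [map_list_sum, List.map_map]
        congr 1
        exact List.map_congr_left fun y _ => (map_mul (algebraMap k k₁) y y).symm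
      rw [hw₁, hrest, ← map_add, hsdef, add_assoc, hsum, map_neg, map_one]
    refine cdF_of_lift Nat.prime_two β g ?_ hgN hord k₁ ((IntermediateField.adjoin_simple_le_iff).2 hwN) ?_ hK'
    · refine (finrank_adjoin_le β ((X ^ 2 - C s) ^ 2 - C (a * a * s)) ?_ ?_).trans ?_
      · intro e
        have h4 : ((X ^ 2 - C s) ^ 2 - C (a * a * s) : k[X]).natDegree = 4 := by
          compute_degree!
        rw [e, natDegree_zero] at h4
        omega
      · simp only [map_sub, map_pow, aeval_X, aeval_C]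
        show (β ^ 2 - ι s) ^ 2 - ι (a * a * s) = 0
        rw [hβ, map_mul, map_mul]
        linear_combination (ι a * ι a) * hw
      · compute_degree
        norm_num
    · refine (finrank_adjoin_le w (X ^ 2 - C s) (X_pow_sub_C_ne_zero two_pos s) ?_).trans_eq natDegree_X_pow_sub_C
      simp only [map_sub, map_pow, aeval_X, aeval_C]
      exact sub_eq_zero.2 hw

/-- Serre's theorem. -/
theorem cdF_descend {l d : ℕ} (hl : l.Prime) (hlk : (l : k) ≠ 0)
    (hord : l ≠ 2 ∨ ¬ ∃ _ : LinearOrder k, IsStrictOrderedRing k) (k' : Type u) [Field k'] [Algebra k k']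
    [FiniteDimensional k k'] [Algebra.IsSeparable k k'] (h : CdF k' l d) : CdF k l d := by
  by_cases hl2 : l = 2
  · subst hl2
    obtain ⟨x, hx⟩ := exists_sumSq_of_not_orderable (hord.resolve_left (fun h2 => h2 rfl))
    exact cdF_descend_two x.length k hlk x le_rfl hx k' h
  · exact cdF_descend_odd hl hl2 hlk k' h

end SerreCdLib
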